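import Mathlib

/-!
# Congruences between sums of two powers of two modulo a large divisor of `2 ^ n - 1`

If `k` is an odd common divisor of `n` and `2 ^ n - 1`, a congruence between two sums of two
powers of two modulo `(2 ^ n - 1) / k` holds modulo `2 ^ n - 1`, unless `n = 6` and `k = 3`.
-/

set_option autoImplicit false
set_option maxRecDepth 4000
set_option synthInstance.maxSize 1000

namespace CfsgLib.RankOne.SuzukiSolvable

theorem small_cases : ∀ n < 12, ∀ k < 12, k ∣ n → k % 2 = 1 → k ∣ 2 ^ n - 1 → 0 < n →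
    k = 1 ∨ (n = 6 ∧ k = 3) := by decide +kernel +kernel

theorem linear_lt : ∀ g : ℕ, 5 ≤ g → 4 * g + 4 < 2 ^ g := by
  intro g hg
  induction g, hg using Nat.le_induction with
  | base => norm_num
  | succ g _ ih => rw [pow_succ]; omega

theorem k_lt_small : ∀ n < 25, ∀ k < 25, 12 ≤ n → k ∣ n → k ∣ 2 ^ n - 1 → k < 2 ^ ((n - 1) / 4) := by
  decide +kernel

theorem k_lt {n k : ℕ} (hn : 12 ≤ n) (hkn : k ∣ n) (hkq : k ∣ 2 ^ n - 1) :
    k < 2 ^ ((n - 1) / 4) := by
  by_cases h : 25 ≤ n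
  · have h1 := linear_lt ((n - 1) / 4) (by omega)
    have h2 := Nat.le_of_dvd (by omega) hkn
    omega
  · have h2 := Nat.le_of_dvd (by omega) hkn
    exact k_lt_small n (by omega) k (by omega) hn hkn hkq

theorem pow_mod_exp (n e : ℕ) : 2 ^ e ≡ 2 ^ (e % n) [MOD 2 ^ n - 1] := by
  conv_lhs => rw [← Nat.mod_add_div e n, pow_add, pow_mul]
  conv_rhs => rw [← mul_one (2 ^ (e % n)), ← one_pow (e / n)]
  exact ((Nat.modEq_sub Nat.one_le_two_pow).pow _).mul_left _

/-- Congruences between sums of two powers of two lift. -/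
theorem lift {n k m a b c f : ℕ} (hkn : k ∣ n) (hkodd : Odd k) (hm : k * m = 2 ^ n - 1)
    (ha : a < n) (hb : b < n) (hc : c < n) (hf : f < n)
    (h : 2 ^ a + 2 ^ b ≡ 2 ^ c + 2 ^ f [MOD m]) :
    (n = 6 ∧ k = 3) ∨ 2 ^ a + 2 ^ b ≡ 2 ^ c + 2 ^ f [MOD 2 ^ n - 1] := by
  have hkq : k ∣ 2 ^ n - 1 := Dvd.intro m hm
  by_cases hk1 : k = 1
  · subst hk1; rw [one_mul] at hm; subst hm; exact Or.inr h
  by_cases hn : n < 12
  · refine Or.inl ((small_cases n hn k ?_ hkn (Nat.odd_iff.mp hkodd) hkq (by omega)).resolve_left hk1)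
    exact lt_of_le_of_lt (Nat.le_of_dvd (by omega) hkn) hn
  refine Or.inr ?_
  set g := (n - 1) / 4 with hg
  have hg2 : 2 ≤ g := by omega
  have hk2 : k < 2 ^ g := k_lt (by omega) hkn hkq
  -- a rotation moving the four exponents below `n - g`
  obtain ⟨r, hrot⟩ : ∃ r, ∀ x ∈ [a, b, c, f], (x + r) % n < n - g := by
    classical
    set bad := ([a, b, c, f].toFinset ×ˢ Finset.range g).image
      (fun p => (n - g + p.2 + (n - p.1)) % n) with hbad
    have hcard : bad.card < (Finset.range n).card := by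
      refine lt_of_le_of_lt Finset.card_image_le ?_
      rw [Finset.card_product, Finset.card_range, Finset.card_range]
      have h4 : ([a, b, c, f].toFinset).card ≤ 4 := List.toFinset_card_le _
      have := Nat.mul_le_mul_right g h4
      omega
    obtain ⟨r, hr, hrb⟩ := Finset.exists_mem_notMem_of_card_lt_card hcard
    rw [Finset.mem_range] at hr
    refine ⟨r, fun x hx => ?_⟩
    have hxn : x < n := by simp at hx; omega
    by_contra hcon
    push Not at hcon
    have hlt : (x + r) % n < n := Nat.mod_lt _ (by omega)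
    refine hrb (Finset.mem_image.mpr ⟨(x, (x + r) % n - (n - g)), Finset.mem_product.mpr
      ⟨List.mem_toFinset.mpr hx, Finset.mem_range.mpr (by simp only; omega)⟩, ?_⟩)
    simp only
    rw [Nat.add_sub_cancel' hcon, Nat.add_mod, Nat.mod_mod, ← Nat.add_mod,
      show x + r + (n - x) = r + n by omega, Nat.add_mod_right, Nat.mod_eq_of_lt hr]
  have hrot' : ∀ x ∈ [a, b, c, f], 2 ^ ((x + r) % n) * 2 ≤ 2 ^ (n - g) := fun x hx => by
    rw [← pow_succ]
    exact Nat.pow_le_pow_right two_pos (hrot x hx)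
  have hmn : m ∣ 2 ^ n - 1 := Dvd.intro_left k hm
  have hL : ∀ x y, (2 ^ x + 2 ^ y) * 2 ^ r ≡ 2 ^ ((x + r) % n) + 2 ^ ((y + r) % n) [MOD 2 ^ n - 1] :=
    fun x y => by
      rw [add_mul, ← pow_add, ← pow_add]
      exact (pow_mod_exp n _).add (pow_mod_exp n _)
  have h1 : 2 ^ ((a + r) % n) + 2 ^ ((b + r) % n) ≡ 2 ^ ((c + r) % n) + 2 ^ ((f + r) % n) [MOD m] :=
    (((hL a b).of_dvd hmn).symm.trans (h.mul_right _)).trans ((hL c f).of_dvd hmn)
  have hle : 2 ^ (n - g) ≤ m := by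
    by_contra hlt
    push Not at hlt
    have h2 : (k + 1) * 2 ^ (n - g) ≤ 2 ^ n := by
      conv_rhs => rw [← Nat.add_sub_of_le (show g ≤ n by omega), pow_add]
      exact Nat.mul_le_mul_right _ hk2
    have h3 : k * (m + 1) ≤ k * 2 ^ (n - g) := Nat.mul_le_mul_left k hlt
    rw [Nat.succ_mul] at h2
    rw [Nat.mul_succ, hm] at h3
    have := Nat.two_pow_pos (n - g)
    have : 1 < 2 ^ (n - g) := Nat.one_lt_two_pow (by omega)
    omega
  have e : 2 ^ ((a + r) % n) + 2 ^ ((b + r) % n) = 2 ^ ((c + r) % n) + 2 ^ ((f + r) % n) := by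
    have := hrot' a (by simp); have := hrot' b (by simp); have := hrot' c (by simp); have := hrot' f (by simp)
    have := Nat.two_pow_pos ((a + r) % n); have := Nat.two_pow_pos ((b + r) % n)
    have := Nat.two_pow_pos ((c + r) % n); have := Nat.two_pow_pos ((f + r) % n)
    rcases le_total (2 ^ ((a + r) % n) + 2 ^ ((b + r) % n))
      (2 ^ ((c + r) % n) + 2 ^ ((f + r) % n)) with hle' | hle'
    · have h2 := (Nat.modEq_iff_dvd' hle').mp h1
      have := Nat.eq_zero_of_dvd_of_lt h2 (by omega)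
      omega
    · have h2 := (Nat.modEq_iff_dvd' hle').mp h1.symm
      have := Nat.eq_zero_of_dvd_of_lt h2 (by omega)
      omega
  have h3 : (2 ^ a + 2 ^ b) * 2 ^ r ≡ (2 ^ c + 2 ^ f) * 2 ^ r [MOD 2 ^ n - 1] :=
    ((hL a b).trans (by rw [e])).trans (hL c f).symm
  refine Nat.ModEq.cancel_right_of_coprime ?_ h3
  refine Nat.Coprime.pow_right r (Nat.coprime_two_right.mpr ?_)
  exact Nat.Even.sub_odd Nat.one_le_two_pow (even_two.pow_of_ne_zero (by omega)) odd_one

theorem six_conj : ∀ d < 6, ∀ e < 6, ∀ t < 6, Nat.gcd (2 ^ d - 1) 21 = 1 →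
    Nat.gcd (2 ^ e - 1) 21 = 1 → (2 ^ t + 2 ^ e) % 21 = (2 ^ ((d + t) % 6) + 1) % 21 →
      d = e ∧ t = 0 := by decide +kernel +kernel

theorem six_sum : ∀ j < 6, ∀ d < 6, (2 ^ j + 2 ^ d) % 21 = 1 → j = 5 ∧ d = 5 := by decide +kernel +kernel

theorem six_inj : ∀ a < 6, ∀ b < 6, (2 ^ a + 2 ^ a) % 21 = (2 ^ b + 2 ^ b) % 21 → a = b := by decide +kernel +kernel

end CfsgLib.RankOne.SuzukiSolvable
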