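import Cfsg.Agent.Lib.RankOne.SuzukiSolvable.Setup

/-!
# The centre of a non-abelian 2-group with a solvable group transitive on its involutions

An alternating form on the field, equivariant for multiplication by the large power `c`, vanishes.
-/

set_option autoImplicit false
set_option linter.style.haveILetI false
set_option linter.unusedSectionVars false
set_option maxHeartbeats 1000000

namespace CfsgLib.RankOne.SuzukiSolvable

universe u v

/-- An alternating `c`-equivariant form vanishes. -/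
theorem form_zero {F : Type u} [Field F] [Fintype F] [Algebra (ZMod 2) F] (B : Big F)
    (β : F → F → F) (hl : ∀ x x' y, β (x + x') y = β x y + β x' y)
    (hr : ∀ x y y', β x (y + y') = β x y + β x y') (hself : ∀ x, β x x = 0)
    (hc : ∀ x y, β (B.c * x) (B.c * y) = B.c * β x y) : ∀ x y, β x y = 0 := by
  classical
  have hbij := SuzukiTwoTwist.ofCoeff_bijective B.l_order B.two_le
  choose co hco using fun y => hbij.2 (AddMonoidHom.mk' (fun x => β x y) fun x x' => hl x x' y)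
  have hcoT : ∀ y x, β x y = ∑ d, co y d * x ^ 2 ^ (d : ℕ) := fun y x => by
    simpa using (DFunLike.congr_fun (hco y) x).symm
  have hcoadd : ∀ y y', co (y + y') = co y + co y' := fun y y' => hbij.1 (by
    ext x
    simp only [SuzukiTwoTwist.ofCoeff_apply, Pi.add_apply, add_mul, Finset.sum_add_distrib]
    rw [← hcoT, ← hcoT, ← hcoT, hr])
  have hcoc : ∀ y, co (B.c * y) = fun d : Fin _ => B.c / B.c ^ 2 ^ (d : ℕ) * co y d := fun y =>
    hbij.1 (by
      ext x
      simp only [SuzukiTwoTwist.ofCoeff_apply]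
      rw [← hcoT]
      conv_lhs => rw [show x = B.c * (x / B.c) from (mul_div_cancel₀ x B.c_ne_zero).symm]
      rw [hc, hcoT, Finset.mul_sum]
      refine Finset.sum_congr rfl fun d _ => ?_
      rw [div_pow]
      field_simp)
  choose b hb using fun d : Fin (Module.finrank (ZMod 2) F) =>
    hbij.2 (AddMonoidHom.mk' (fun y => co y d) fun y y' => congrFun (hcoadd y y') d)
  have hbT : ∀ d y, co y d = ∑ j, b d j * y ^ 2 ^ (j : ℕ) := fun d y => by
    simpa using (DFunLike.congr_fun (hb d) y).symm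
  have hbc : ∀ d, (fun j : Fin _ => b d j * B.c ^ 2 ^ (j : ℕ)) =
      fun j => B.c / B.c ^ 2 ^ (d : ℕ) * b d j := fun d => hbij.1 (by
    ext y
    simp only [SuzukiTwoTwist.ofCoeff_apply]
    calc ∑ j, b d j * B.c ^ 2 ^ (j : ℕ) * y ^ 2 ^ (j : ℕ)
        = ∑ j, b d j * (B.c * y) ^ 2 ^ (j : ℕ) := by
          simp only [mul_pow, mul_assoc]
      _ = B.c / B.c ^ 2 ^ (d : ℕ) * co y d := by rw [← hbT, hcoc]
      _ = _ := by rw [hbT, Finset.mul_sum]; simp only [mul_assoc])
  have hn := B.two_le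
  let h : Fin (Module.finrank (ZMod 2) F) := ⟨Module.finrank (ZMod 2) F - 1, by omega⟩
  have hsupp : ∀ d j, b d j ≠ 0 → j = h ∧ d = h := by
    intro d j hne
    have h1 : B.c ^ 2 ^ (j : ℕ) = B.c / B.c ^ 2 ^ (d : ℕ) := by
      have := congrFun (hbc d) j
      rw [mul_comm (B.c / _)] at this
      exact mul_left_cancel₀ hne this
    have h2 : B.c ^ (2 ^ (j : ℕ) + 2 ^ (d : ℕ)) = B.c := by
      rw [pow_add, h1, div_mul_cancel₀ _ (pow_ne_zero _ B.c_ne_zero)]
    obtain ⟨e1, e2⟩ := B.sum_eq_self j.2 d.2 h2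
    exact ⟨Fin.ext e1, Fin.ext e2⟩
  have hval : ∀ x y, β x y = b h h * y ^ 2 ^ (h : ℕ) * x ^ 2 ^ (h : ℕ) := by
    intro x y
    rw [hcoT, Finset.sum_eq_single h]
    · rw [hbT, Finset.sum_eq_single h]
      · exact fun j _ hj => by
          by_cases h0 : b h j = 0
          · rw [h0, zero_mul]
          · exact absurd (hsupp h j h0).1 hj
      · simp
    · intro d _ hd
      rw [hbT, Finset.sum_eq_zero, zero_mul]
      intro j _
      by_cases h0 : b d j = 0
      · rw [h0, zero_mul]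
      · exact absurd (hsupp d j h0).2 hd
    · simp
  intro x y
  have h1 := hself 1
  rw [hval] at h1
  simp only [one_pow, mul_one] at h1
  rw [hval, h1, zero_mul, zero_mul]

section Base

variable {P : Type u} [Group P] [Finite P] {A : Type v} [Group A] [Group.IsSolvable A]
  {φ : A →* MulAut P} (hP : IsPGroup 2 P) (hA : Trans φ)

include hP hA

/-- `P` is abelian when all its commutators are involutions and its centre has exponent at least 4. -/
theorem abelian_of_commutators (htwo : ∃ x y : P, x ≠ y ∧ x ≠ 1 ∧ x * x = 1 ∧ y ≠ 1 ∧ y * y = 1)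
    {z : P} (hz : z ∈ Subgroup.center P) (hz2 : z * z ≠ 1)
    (hcom : ∀ x y : P, x * y * x⁻¹ * y⁻¹ * (x * y * x⁻¹ * y⁻¹) = 1) : ∀ x y : P, x * y = y * x := by
  classical
  set C := fun x y : P => x * y * x⁻¹ * y⁻¹ with hC
  have hCc : ∀ x y, C x y ∈ Subgroup.center P := fun x y => central_of_invol hP hA (hcom x y)
  have hmapC : ∀ (g : A) x y, φ g (C x y) = C (φ g x) (φ g y) := fun g x y => by
    simp only [hC, map_mul, map_inv]
  have hmulL : ∀ x x' y, C (x * x') y = C x y * C x' y := fun x x' y => by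
    calc C (x * x') y = x * C x' y * (y * x⁻¹ * y⁻¹) := by simp only [hC]; group
      _ = C x' y * x * (y * x⁻¹ * y⁻¹) := by rw [Subgroup.mem_center_iff.mp (hCc x' y) x]
      _ = C x' y * C x y := by simp only [hC]; group
      _ = _ := (Subgroup.mem_center_iff.mp (hCc x' y) _).symm
  have hswap : ∀ x y, C x y = C y x := fun x y => by
    have h1 : C y x = (C x y)⁻¹ := by simp only [hC]; group
    rw [h1, inv_eq_of_mul_eq_one_right (hcom x y)]
  have hmulR : ∀ x y y', C x (y * y') = C x y * C x y' := fun x y y' => by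
    rw [hswap, hmulL, hswap y, hswap y']
  have hzero : ∀ x, ∀ w ∈ Subgroup.center P, C w x = 1 := fun x w hw => by
    simp only [hC]; rw [← Subgroup.mem_center_iff.mp hw x]; group
  have hsq : ∀ x : P, x ^ 2 ∈ Subgroup.center P := fun x =>
    Subgroup.mem_center_iff.mpr fun y => by
      have h1 : C (x * x) y = 1 := by rw [hmulL]; exact hcom x y
      rw [pow_two]
      exact (mul_inv_eq_iff_eq_mul.mp (mul_inv_eq_one.mp h1)).symm
  haveI : Fintype (Subgroup.center P) := Fintype.ofFinite _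
  obtain ⟨⟨z0, hz0⟩, -, hmax⟩ := Finset.exists_max_image (Finset.univ (α := Subgroup.center P))
    (fun z => orderOf (z : P)) Finset.univ_nonempty
  simp only at hmax
  obtain ⟨n, hn⟩ := hP.exists_orderOf_eq_pow z0 (p := 2)
  obtain ⟨m, hm⟩ := hP.exists_orderOf_eq_pow z (p := 2)
  have hle : m ≤ n := (Nat.pow_le_pow_iff_right one_lt_two).mp (by
    rw [← hn, ← hm]; exact hmax ⟨z, hz⟩ (Finset.mem_univ _))
  obtain ⟨e, rfl⟩ : ∃ e, n = e + 2 := by
    refine ⟨n - 2, ?_⟩
    by_contra hlt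
    refine hz2 ?_
    rw [← pow_two]
    refine orderOf_dvd_iff_pow_eq_one.mp ?_
    rw [hm]
    exact (pow_dvd_pow 2 (show m ≤ 1 by omega)).trans (by norm_num)
  have hexp : ∀ w ∈ Subgroup.center P, w ^ 2 ^ (e + 2) = 1 := fun w hw => by
    obtain ⟨j, hj⟩ := hP.exists_orderOf_eq_pow w (p := 2)
    refine orderOf_dvd_iff_pow_eq_one.mp ?_
    rw [hj]
    refine pow_dvd_pow 2 ((Nat.pow_le_pow_iff_right one_lt_two).mp ?_)
    rw [← hn, ← hj]
    exact hmax ⟨w, hw⟩ (Finset.mem_univ _)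
  have hz0' : z0 ^ 2 ^ (e + 1) ≠ 1 := pow_ne_one_of_lt_orderOf (pow_ne_zero _ two_ne_zero)
    (by rw [hn]; exact Nat.pow_lt_pow_succ one_lt_two)
  set T := fun x : P => x ^ 2 ^ (e + 2) with hT
  have hT2 : ∀ x, T x * T x = 1 := fun x => by
    simp only [hT]
    rw [← pow_two, ← pow_mul, mul_comm, pow_mul]
    exact hexp _ (hsq x)
  have hTker : ∀ x, T x = 1 → x ∈ Subgroup.center P := fun x hx => by
    obtain ⟨u, hu, huu⟩ := exists_sqrt hP hA (hsq x) hz0 (e + 1)
      (by rw [← pow_mul, ← pow_succ']; exact hx) hz0'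
    have h1 : x * u⁻¹ ∈ Subgroup.center P := central_of_invol hP hA (by
      have hc := Subgroup.mem_center_iff.mp (inv_mem hu) x
      calc x * u⁻¹ * (x * u⁻¹) = x * (u⁻¹ * x) * u⁻¹ := by group
        _ = x ^ 2 * (u * u)⁻¹ := by rw [← hc, pow_two]; group
        _ = 1 := by rw [huu]; group)
    simpa using mul_mem h1 hu
  have hTmul : ∀ x y, T (x * y) = T x * T y := fun x y => by
    simp only [hT]
    have h1 : (x * y) ^ 2 = x ^ 2 * y ^ 2 * C y x := by
      have h2 : y * x = C y x * (x * y) := by simp only [hC]; group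
      calc (x * y) ^ 2 = x * (y * x) * y := by rw [pow_two]; group
        _ = x * C y x * x * (y * y) := by rw [h2]; group
        _ = C y x * (x * x * (y * y)) := by rw [Subgroup.mem_center_iff.mp (hCc y x) x]; group
        _ = _ := by rw [← Subgroup.mem_center_iff.mp (hCc y x), pow_two, pow_two]
    rw [pow_succ' 2 (e + 1), pow_mul, pow_mul, pow_mul, h1,
      (show Commute (x ^ 2 * y ^ 2) (C y x) from Subgroup.mem_center_iff.mp (hCc y x) _).mul_pow,
      (show Commute (x ^ 2) (y ^ 2) from Subgroup.mem_center_iff.mp (hsq y) _).mul_pow]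
    have h3 : C y x ^ 2 ^ (e + 1) = 1 := by
      rw [pow_succ', pow_mul, pow_two, hcom, one_pow]
    rw [h3, mul_one]
  have hTmap : ∀ (g : A) x, φ g (T x) = T (φ g x) := fun g x => map_pow _ _ _
  by_contra hna
  obtain ⟨x0, hx0⟩ : ∃ x0, x0 ∉ Subgroup.center P := by
    by_contra h
    push Not at h
    exact hna fun x y => Subgroup.mem_center_iff.mp (h y) x
  have hT0 : T x0 ≠ 1 := fun h => hx0 (hTker x0 h)
  obtain ⟨F, iF, iFt, iFa, e, B, γ, hinj, hadd, hrange, hγ⟩ := exists_frame hP hA htwo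
  have he0 : e 0 = 1 := by
    have h := hadd 0 0
    rw [add_zero] at h
    exact mul_eq_left.mp h.symm
  have hsurj : ∀ f : F, ∃ x, T x = e f := by
    intro f
    by_cases hf : f = 0
    · exact ⟨1, by rw [hf, he0]; exact one_pow _⟩
    obtain ⟨a, ha⟩ := hA (T x0) (e f) hT0 (hT2 x0) (fun h => hf (hinj (h.trans he0.symm)))
      ((hrange _).mpr ⟨f, rfl⟩)
    exact ⟨φ a x0, by rw [← hTmap, ha]⟩
  choose r hr using hsurj
  have hCT : ∀ x x' y, T x = T x' → C x y = C x' y := fun x x' y h => by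
    have h1 : x'⁻¹ * x ∈ Subgroup.center P := hTker _ (by
      rw [hTmul, h, ← hTmul, inv_mul_cancel]; exact one_pow _)
    conv_lhs => rw [show x = x' * (x'⁻¹ * x) by group]
    rw [hmulL, hzero _ _ h1, mul_one]
  choose β hβ using fun x y : F => (hrange (C (r x) (r y))).mp (hcom _ _)
  have hβl : ∀ x x' y, β (x + x') y = β x y + β x' y := fun x x' y => hinj (by
    rw [hadd, hβ, hβ, hβ, ← hmulL]
    exact hCT _ _ _ (by rw [hTmul, hr, hr, hr, hadd]))
  have hβs : ∀ x y, β x y = β y x := fun x y => hinj (by rw [hβ, hβ, hswap])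
  have h0 := form_zero B β hβl (fun x y y' => by rw [hβs, hβl, hβs y, hβs y'])
    (fun x => hinj (by rw [hβ, he0]; simp only [hC]; group)) (fun x y => hinj (by
      have h1 : ∀ x, T (r (B.c * x)) = T (φ γ (r x)) := fun x => by rw [← hTmap, hr, hr, hγ]
      rw [hβ, hCT _ _ _ (h1 x), hswap, hCT _ _ _ (h1 y), hswap, ← hmapC, ← hβ, hγ]))
  refine hx0 (Subgroup.mem_center_iff.mpr fun y => ?_)
  obtain ⟨f, hf⟩ := (hrange _).mp (hT2 x0)
  obtain ⟨g, hg⟩ := (hrange _).mp (hT2 y)
  have h2 : C y x0 = 1 := by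
    rw [hCT y (r g) _ (by rw [hr, hg]), hswap, hCT x0 (r f) _ (by rw [hr, hf]), ← hβ, h0, he0]
  exact mul_inv_eq_iff_eq_mul.mp (mul_inv_eq_one.mp h2)

end Base

theorem center_sq : ∀ (n : ℕ) (P : Type u) [Group P] [Finite P], Nat.card P = n →
    ∀ {A : Type v} [Group A] [Group.IsSolvable A] (φ : A →* MulAut P), IsPGroup 2 P → Trans φ →
      (∃ x y : P, x ≠ y ∧ x ≠ 1 ∧ x * x = 1 ∧ y ≠ 1 ∧ y * y = 1) →
      (∃ x y : P, x * y ≠ y * x) → ∀ z ∈ Subgroup.center P, z * z = 1 := by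
  intro n
  induction n using Nat.strong_induction_on with
  | _ n ih =>
  intro P _ _ hn A _ _ φ hP hA htwo hna z hz
  by_contra hz2
  haveI : Fact (Nat.Prime 2) := ⟨Nat.prime_two⟩
  set N := omega hP hA with hN
  have hNc : N ≤ Subgroup.center P := fun x hx => central_of_invol hP hA hx
  haveI : N.Normal := ⟨fun m hm g => by
    rw [Subgroup.mem_center_iff.mp (hNc hm) g, mul_inv_cancel_right]; exact hm⟩
  have hNmap : ∀ g : A, N.map (φ g).toMonoidHom = N := by
    intro g
    ext y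
    constructor
    · rintro ⟨x, hx, rfl⟩; exact apply_invol (φ := φ) g hx
    · exact fun hy => ⟨φ g⁻¹ y, apply_invol (φ := φ) g⁻¹ hy, by simp⟩
  -- a square in the centre of an element outside
  have hsqrt : ∀ x : P, x * x * (x * x) = 1 → x * x ≠ 1 → x ∈ Subgroup.center P := by
    intro x h4 _
    obtain ⟨u, hu, huu⟩ := exists_sqrt hP hA (hNc (show x * x ∈ N from h4)) hz 1
      (by rw [pow_one, pow_two]; exact h4) (by rw [pow_one, pow_two]; exact hz2)
    have h1 : x * u⁻¹ ∈ Subgroup.center P := central_of_invol hP hA (by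
      have hc := Subgroup.mem_center_iff.mp (inv_mem hu) x
      calc x * u⁻¹ * (x * u⁻¹) = x * (u⁻¹ * x) * u⁻¹ := by group
        _ = x * x * (u * u)⁻¹ := by rw [← hc]; group
        _ = 1 := by rw [huu]; group)
    simpa using mul_mem h1 hu
  by_cases hab : ∀ x y : P ⧸ N, x * y = y * x
  · obtain ⟨x, y, hxy⟩ := hna
    refine hxy (abelian_of_commutators hP hA htwo hz hz2 (fun x y => ?_) x y)
    have h : (((x * y * x⁻¹ * y⁻¹ : P)) : P ⧸ N) = 1 := by
      rw [QuotientGroup.mk_mul, QuotientGroup.mk_mul, QuotientGroup.mk_mul, hab (x : P ⧸ N),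
        QuotientGroup.mk_inv, QuotientGroup.mk_inv]
      group
    exact (QuotientGroup.eq_one_iff _).mp h
  push Not at hab
  obtain ⟨n', hn'⟩ := hP.exists_orderOf_eq_pow z (p := 2)
  have hlt : Nat.card (P ⧸ N) < n := by
    rw [← hn]
    refine lt_of_lt_of_eq ?_ N.index_mul_card
    refine lt_mul_of_one_lt_right (Nat.pos_of_ne_zero Subgroup.index_ne_zero_of_finite) ?_
    rw [Subgroup.one_lt_card_iff_ne_bot]
    intro hbot
    cases n' with
    | zero => exact hz2 (by rw [orderOf_eq_one_iff.mp (hn'.trans (pow_zero 2)), one_mul])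
    | succ m =>
      have hmem : z ^ 2 ^ m ∈ N := by
        change z ^ 2 ^ m * z ^ 2 ^ m = 1
        rw [← pow_add, ← two_mul, ← pow_succ', ← hn', pow_orderOf_eq_one]
      rw [hbot, Subgroup.mem_bot] at hmem
      exact pow_ne_one_of_lt_orderOf (pow_ne_zero _ two_ne_zero)
        (by rw [hn']; exact Nat.pow_lt_pow_succ one_lt_two) hmem
  have htrans : Trans (quotientHom (φ := φ) N hNmap) := by
    intro x y hx1 hx hy1 hy
    obtain ⟨x, rfl⟩ := QuotientGroup.mk_surjective x
    obtain ⟨y, rfl⟩ := QuotientGroup.mk_surjective y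
    rw [← QuotientGroup.mk_mul, QuotientGroup.eq_one_iff] at hx hy
    rw [Ne, QuotientGroup.eq_one_iff] at hx1 hy1
    have hxC := hsqrt x hx hx1
    obtain ⟨h, hh⟩ := hA (x * x) (y * y) hx1 hx hy1 hy
    refine ⟨h, ?_⟩
    change ((φ h x : P) : P ⧸ N) = (y : P ⧸ N)
    rw [QuotientGroup.eq]
    change (φ h x)⁻¹ * y * ((φ h x)⁻¹ * y) = 1
    have hc := Subgroup.mem_center_iff.mp (inv_mem (MulEquivClass.apply_mem_center (φ h) hxC)) y
    calc (φ h x)⁻¹ * y * ((φ h x)⁻¹ * y) = (φ h x)⁻¹ * (y * (φ h x)⁻¹) * y := by group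
      _ = (φ h (x * x))⁻¹ * (y * y) := by rw [hc, map_mul]; group
      _ = 1 := by rw [hh, inv_mul_cancel]
  have htwo' : ∃ x y : P ⧸ N, x ≠ y ∧ x ≠ 1 ∧ x * x = 1 ∧ y ≠ 1 ∧ y * y = 1 := by
    obtain ⟨x₀, y₀, hxy, hx1, hx, hy1, hy⟩ := htwo
    have hroot : ∀ t : P, t ≠ 1 → t * t = 1 → ∃ u ∈ Subgroup.center P, u * u = t := fun t ht1 ht =>
      exists_sqrt hP hA (hNc (show t ∈ N from ht)) hz 1
        (by rw [pow_one, pow_two]; exact ht) (by rw [pow_one, pow_two]; exact hz2)
    obtain ⟨u, hu, huu⟩ := hroot x₀ hx1 hx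
    obtain ⟨w, hw, hww⟩ := hroot y₀ hy1 hy
    refine ⟨(u : P ⧸ N), (w : P ⧸ N), fun h => hxy ?_, fun h => hx1 ?_, ?_, fun h => hy1 ?_, ?_⟩
    · rw [QuotientGroup.eq] at h
      change u⁻¹ * w * (u⁻¹ * w) = 1 at h
      rw [← huu, ← hww]
      calc u * u = u * u * (u⁻¹ * w * (u⁻¹ * w)) := by rw [h, mul_one]
        _ = u * (w * u⁻¹) * w := by group
        _ = w * w := by rw [Subgroup.mem_center_iff.mp (inv_mem hu) w]; group
    · rw [← huu]; exact (QuotientGroup.eq_one_iff u).mp h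
    · rw [← QuotientGroup.mk_mul, huu, QuotientGroup.eq_one_iff]; exact hx
    · rw [← hww]; exact (QuotientGroup.eq_one_iff w).mp h
    · rw [← QuotientGroup.mk_mul, hww, QuotientGroup.eq_one_iff]; exact hy
  have hind := ih _ hlt (P ⧸ N) rfl (quotientHom (φ := φ) N hNmap) (hP.to_quotient N) htrans htwo' hab
  -- an involution in the centre of `P / Z(P)`
  haveI : Nontrivial (P ⧸ Subgroup.center P) := by
    obtain ⟨x, y, hxy⟩ := hna
    refine ⟨⟨(y : P ⧸ Subgroup.center P), 1, fun h => hxy ?_⟩⟩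
    exact Subgroup.mem_center_iff.mp ((QuotientGroup.eq_one_iff _).mp h) x
  have hPZ := hP.to_quotient (Subgroup.center P)
  haveI := hPZ.center_nontrivial
  obtain ⟨j, hj, hc⟩ := (hPZ.to_subgroup (Subgroup.center (P ⧸ Subgroup.center P))).nontrivial_iff_card.mp
    inferInstance
  obtain ⟨⟨xb, hxb⟩, ho⟩ := exists_prime_orderOf_dvd_card' (G := Subgroup.center (P ⧸ Subgroup.center P)) 2
    (hc ▸ dvd_pow_self 2 hj.ne')
  rw [Subgroup.orderOf_mk] at ho
  obtain ⟨x, rfl⟩ := QuotientGroup.mk_surjective xb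
  have hxZ : x ∉ Subgroup.center P := fun h => by
    rw [orderOf_eq_one_iff.mpr ((QuotientGroup.eq_one_iff x).mpr h)] at ho; norm_num at ho
  have hx2 : x * x ∈ Subgroup.center P := by
    rw [← QuotientGroup.eq_one_iff, QuotientGroup.mk_mul, ← pow_two, ← ho, pow_orderOf_eq_one]
  have hxc : (x : P ⧸ N) ∈ Subgroup.center (P ⧸ N) := by
    rw [Subgroup.mem_center_iff]
    intro yb
    obtain ⟨y, rfl⟩ := QuotientGroup.mk_surjective yb
    have hc1 : x * y * x⁻¹ * y⁻¹ ∈ Subgroup.center P := by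
      rw [← QuotientGroup.eq_one_iff]
      simp only [QuotientGroup.mk_mul, QuotientGroup.mk_inv]
      rw [← Subgroup.mem_center_iff.mp hxb (y : P ⧸ Subgroup.center P)]
      group
    have hc2 : x * y * x⁻¹ * y⁻¹ * (x * y * x⁻¹ * y⁻¹) = 1 := by
      calc x * y * x⁻¹ * y⁻¹ * (x * y * x⁻¹ * y⁻¹)
          = (x * y * x⁻¹ * y⁻¹ * x) * (y * x⁻¹ * y⁻¹) := by group
        _ = x * (x * y * x⁻¹ * y⁻¹) * (y * x⁻¹ * y⁻¹) := by rw [Subgroup.mem_center_iff.mp hc1 x]
        _ = x * x * y * (x * x)⁻¹ * y⁻¹ := by group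
        _ = 1 := by rw [← Subgroup.mem_center_iff.mp hx2 y]; group
    have h : (((x * y * x⁻¹ * y⁻¹ : P)) : P ⧸ N) = 1 := (QuotientGroup.eq_one_iff _).mpr hc2
    simp only [QuotientGroup.mk_mul, QuotientGroup.mk_inv] at h
    exact (mul_inv_eq_iff_eq_mul.mp (mul_inv_eq_one.mp h)).symm
  have h4 : x * x * (x * x) = 1 := by
    have h := hind _ hxc
    rw [← QuotientGroup.mk_mul, QuotientGroup.eq_one_iff] at h
    exact h
  by_cases hxx : x * x = 1
  · exact hxZ (central_of_invol hP hA hxx)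
  · exact hxZ (hsqrt x h4 hxx)

end CfsgLib.RankOne.SuzukiSolvable
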