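import Cfsg.Agent.Lib.RankOne.SuzukiSolvable.CenterSq
import Cfsg.Agent.Lib.Solvable.FrattiniFitting

/-!
# The exponent of a non-abelian 2-group with a solvable group transitive on its involutions is 4

A maximal invariant abelian subgroup containing all squares gives additive maps of the field of
involutions; their twists by the large power `c` have full order, as powers of the automorphism
multiplying by `c` are fixed-point-free.
-/

set_option autoImplicit false
set_option linter.style.haveILetI false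
set_option maxHeartbeats 1000000

namespace CfsgLib.RankOne.SuzukiSolvable

open CfsgLib.RankOne
set_option linter.unusedSectionVars false

universe u v

variable {P : Type u} [Group P] {A : Type v} [Group A] [Group.IsSolvable A] (φ : A →* MulAut P)

/-- `H` is invariant under `A`. -/
def Inv (H : Subgroup P) : Prop := ∀ (a : A) (x : P), x ∈ H → φ a x ∈ H

/-- The commutator used in this file. -/
abbrev comm (x y : P) : P := x * y * x⁻¹ * y⁻¹

/-- The restricted action. -/
def resHom (H : Subgroup P) (hH : Inv φ H) : A →* MulAut H where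
  toFun a :=
    { toFun := fun x => ⟨φ a x, hH a x x.2⟩
      invFun := fun x => ⟨φ a⁻¹ x, hH a⁻¹ x x.2⟩
      left_inv := fun x => Subtype.ext (by simp)
      right_inv := fun x => Subtype.ext (by simp)
      map_mul' := fun x y => Subtype.ext (by simp) }
  map_one' := MulEquiv.ext fun x => Subtype.ext (by simp)
  map_mul' a b := MulEquiv.ext fun x => Subtype.ext (by simp)

theorem map_comm (a : A) (x y : P) : φ a (comm x y) = comm (φ a x) (φ a y) := by simp [comm]

theorem apply_inv_apply (a : A) (x : P) : φ a (φ a⁻¹ x) = x := by simp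

variable [Finite P]
variable {φ}
variable (hP : IsPGroup 2 P) (hA : Trans φ) (hna : ∃ x y : P, x * y ≠ y * x)
  (htwo : ∃ x y : P, x ≠ y ∧ x ≠ 1 ∧ x * x = 1 ∧ y ≠ 1 ∧ y * y = 1)

include hP hA htwo in
/-- An invariant non-abelian subgroup has an elementary abelian centre. -/
theorem center_sq_of_inv {H : Subgroup P} (hH : Inv φ H) (hn : ∃ x y : H, x * y ≠ y * x) {x : P}
    (hx : x ∈ H) (hc : ∀ y ∈ H, x * y = y * x) : x * x = 1 := by
  haveI : Fact (Nat.Prime 2) := ⟨Nat.prime_two⟩
  have htr : Trans (resHom φ H hH) := by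
    intro s t hs1 hs ht1 ht
    obtain ⟨a, ha⟩ := hA s.1 t.1 (fun e => hs1 (Subtype.ext e)) (congrArg Subtype.val hs)
      (fun e => ht1 (Subtype.ext e)) (congrArg Subtype.val ht)
    exact ⟨a, Subtype.ext ha⟩
  have hmem : ∀ t : P, t ≠ 1 → t * t = 1 → t ∈ H := by
    intro t ht1 ht
    obtain ⟨u, v, huv⟩ := id hn
    haveI : Nontrivial H := ⟨⟨u * v, v * u, huv⟩⟩
    obtain ⟨j, hj, hc'⟩ := (hP.to_subgroup H).nontrivial_iff_card.mp inferInstance
    obtain ⟨s, hs⟩ := exists_prime_orderOf_dvd_card' (G := H) 2 (hc' ▸ dvd_pow_self 2 hj.ne')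
    have hs' : orderOf (s : P) = 2 := by rw [Subgroup.orderOf_coe]; exact hs
    obtain ⟨a, ha⟩ := hA s t (fun e => by rw [e, orderOf_one] at hs'; norm_num at hs')
      (by rw [← pow_two, ← hs', pow_orderOf_eq_one]) ht1 ht
    exact ha ▸ hH a s s.2
  have htwoH : ∃ x y : H, x ≠ y ∧ x ≠ 1 ∧ x * x = 1 ∧ y ≠ 1 ∧ y * y = 1 := by
    obtain ⟨p, q, hpq, hp1, hp, hq1, hq⟩ := htwo
    exact ⟨⟨p, hmem p hp1 hp⟩, ⟨q, hmem q hq1 hq⟩, fun e => hpq (congrArg Subtype.val e),
      fun e => hp1 (congrArg Subtype.val e), Subtype.ext hp, fun e => hq1 (congrArg Subtype.val e),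
      Subtype.ext hq⟩
  exact congrArg Subtype.val (center_sq (Nat.card H) H rfl (resHom φ H hH)
    (hP.to_subgroup H) htr htwoH hn ⟨x, hx⟩
    (Subgroup.mem_center_iff.mpr fun y => Subtype.ext (hc y y.2).symm))

include hP hA hna htwo in
theorem mem_center_iff' {x : P} : x ∈ Subgroup.center P ↔ x * x = 1 :=
  ⟨fun h => center_sq (Nat.card P) P rfl φ hP hA htwo hna x h,
    fun h => central_of_invol hP hA h⟩

include hP hA hna htwo in
/-- The subgroup generated by the squares is abelian. -/
theorem squares_comm : ∀ x ∈ Subgroup.closure (Set.range fun g : P => g * g),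
    ∀ y ∈ Subgroup.closure (Set.range fun g : P => g * g), x * y = y * x := by
  haveI : Fact (Nat.Prime 2) := ⟨Nat.prime_two⟩
  set F := Subgroup.closure (Set.range fun g : P => g * g) with hF
  have hFi : Inv φ F := by
    intro a x hx
    induction hx using Subgroup.closure_induction with
    | mem x hx =>
      obtain ⟨g, rfl⟩ := hx
      exact Subgroup.subset_closure ⟨φ a g, by simp⟩
    | one => simp [one_mem]
    | mul x y _ _ hx hy => simpa using mul_mem hx hy
    | inv x _ hx => simpa using inv_mem hx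
  by_contra hcon
  push Not at hcon
  obtain ⟨u, hu, v, hv, huv⟩ := hcon
  haveI hFn : F.Normal := by
    refine ⟨fun x hx g => ?_⟩
    have e : g * x * g⁻¹ = g * x * (g * x) * x⁻¹ * (g * g)⁻¹ := by group
    rw [e]
    exact mul_mem (mul_mem (Subgroup.subset_closure ⟨g * x, rfl⟩) (inv_mem hx))
      (inv_mem (Subgroup.subset_closure ⟨g, rfl⟩))
  have hnF : ∃ x y : F, x * y ≠ y * x := ⟨⟨u, hu⟩, ⟨v, hv⟩, fun e => huv (congrArg Subtype.val e)⟩
  set π := QuotientGroup.mk' (Subgroup.center P) with hπ
  have hne : F.map π ≠ ⊥ := by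
    rw [Ne, Subgroup.map_eq_bot_iff, QuotientGroup.ker_mk']
    exact fun h => huv (Subgroup.mem_center_iff.mp (h hv) u)
  haveI : (F.map π).Normal := hFn.map π (QuotientGroup.mk'_surjective _)
  haveI : Group.IsNilpotent (P ⧸ Subgroup.center P) := (hP.to_quotient _).isNilpotent
  obtain ⟨xb, hxb, hxb1⟩ : ∃ xb, xb ∈ F.map π ⊓ Subgroup.center (P ⧸ Subgroup.center P) ∧ xb ≠ 1 := by
    by_contra h
    push Not at h
    exact CfsgLib.Solvable.FrattiniFitting.inf_center_ne_bot (F.map π) hne
      ((Subgroup.eq_bot_iff_forall _).mpr h)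
  obtain ⟨hxbF, hxbZ⟩ := hxb
  obtain ⟨x, hx, rfl⟩ := hxbF
  have hxZ : x ∉ Subgroup.center P := fun h => hxb1 ((QuotientGroup.eq_one_iff x).mpr h)
  have hcz : ∀ g, comm x g ∈ Subgroup.center P := fun g => by
    refine (QuotientGroup.eq_one_iff _).mp ?_
    have h := Subgroup.mem_center_iff.mp hxbZ (π g)
    simp only [hπ, QuotientGroup.mk'_apply] at h
    simp only [comm, QuotientGroup.mk_mul, QuotientGroup.mk_inv]
    rw [← h]
    group
  have hcom : ∀ y ∈ F, x * y = y * x := by
    intro y hy
    suffices h : y ∈ Subgroup.centralizer ({x} : Set P) from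
      (Subgroup.mem_centralizer_iff.mp h x rfl)
    refine (Subgroup.closure_le _).mpr ?_ hy
    rintro _ ⟨g, rfl⟩
    simp only [SetLike.mem_coe, Subgroup.mem_centralizer_iff, Set.mem_singleton_iff]
    intro u' hu'
    rw [hu']
    have h2 : comm x (g * g) = 1 := by
      have e : comm x (g * g) = comm x g * (g * comm x g * g⁻¹) := by simp only [comm]; group
      rw [e, Subgroup.mem_center_iff.mp (hcz g) g, mul_inv_cancel_right]
      exact (mem_center_iff' hP hA hna htwo).mp (hcz g)
    exact mul_inv_eq_iff_eq_mul.mp (mul_inv_eq_one.mp h2)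
  exact hxZ ((mem_center_iff' hP hA hna htwo).mpr (center_sq_of_inv hP hA htwo hFi hnF hx hcom))

include hP hA hna htwo in
/-- All squares are central. -/
theorem sq_mem_center (g : P) :
    g * g ∈ Subgroup.center P := by
  classical
  haveI : Fact (Nat.Prime 2) := ⟨Nat.prime_two⟩
  revert g
  have hZ : ∀ {x : P}, x ∈ Subgroup.center P ↔ x * x = 1 := fun {x} => mem_center_iff' hP hA hna htwo
  -- a maximal invariant abelian subgroup containing the squares
  haveI : Fintype (Subgroup P) := Fintype.ofFinite _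
  let good : Subgroup P → Prop := fun H =>
    (∀ x : P, x * x ∈ H) ∧ (∀ x ∈ H, ∀ y ∈ H, x * y = y * x) ∧ Inv φ H
  obtain ⟨W, hWg, hmax⟩ := Finset.exists_max_image (Finset.univ.filter good) (fun H => Nat.card H)
    ⟨Subgroup.closure (Set.range fun g : P => g * g), Finset.mem_filter.mpr ⟨Finset.mem_univ _,
      fun x => Subgroup.subset_closure ⟨x, rfl⟩, squares_comm hP hA hna htwo, fun a x hx => by
        induction hx using Subgroup.closure_induction with
        | mem x hx => obtain ⟨g, rfl⟩ := hx; exact Subgroup.subset_closure ⟨φ a g, by simp⟩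
        | one => simp [one_mem]
        | mul x y _ _ hx hy => simpa using mul_mem hx hy
        | inv x _ hx => simpa using inv_mem hx⟩⟩
  obtain ⟨-, hsq, hWc, hWi⟩ := Finset.mem_filter.mp hWg
  have hconj : ∀ (g : P) w, w ∈ W → g * w * g⁻¹ ∈ W := by
    intro g w hw
    have e : g * w * g⁻¹ = g * w * (g * w) * w⁻¹ * (g * g)⁻¹ := by group
    rw [e]
    exact mul_mem (mul_mem (hsq _) (inv_mem hw)) (inv_mem (hsq g))
  by_cases hexp : ∀ w ∈ W, w * w = 1
  · exact fun g => hZ.mpr (hexp _ (hsq g))
  push Not at hexp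
  obtain ⟨w₀, hw₀, hw₀2⟩ := hexp
  have hself : ∀ y : P, (∀ w ∈ W, y * w = w * y) → y ∈ W := by
    intro y hy
    set C := Subgroup.centralizer (W : Set P) with hC
    have hyC : y ∈ C := Subgroup.mem_centralizer_iff.mpr fun w hw => (hy w hw).symm
    have hWC : W ≤ C := fun w hw => Subgroup.mem_centralizer_iff.mpr fun u hu => hWc u hu w hw
    have hCi : Inv φ C := fun a x hx => Subgroup.mem_centralizer_iff.mpr fun u hu => by
      have h := Subgroup.mem_centralizer_iff.mp hx _ (hWi a⁻¹ u hu)
      have h' := congrArg (φ a) h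
      simpa using h'
    by_cases hab : ∀ x ∈ C, ∀ z ∈ C, x * z = z * x
    · have hle := hmax C (Finset.mem_filter.mpr
        ⟨Finset.mem_univ _, fun x => hWC (hsq x), hab, hCi⟩)
      rw [Subgroup.eq_of_le_of_card_ge hWC hle]
      exact hyC
    · push Not at hab
      obtain ⟨x, hx, z, hz, hxz⟩ := hab
      exact absurd (center_sq_of_inv hP hA htwo hCi
        ⟨⟨x, hx⟩, ⟨z, hz⟩, fun e => hxz (congrArg Subtype.val e)⟩ (hWC hw₀)
        fun u hu => (Subgroup.mem_centralizer_iff.mp hu w₀ hw₀)) hw₀2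
  obtain ⟨F, iF, iFt, iFa, e, B', γ, hinj, hadd, hrange, hγ⟩ := exists_frame hP hA htwo
  have hn := B'.two_le
  obtain ⟨l, hl0, hl⟩ := SuzukiTwoTwist.exists_gen (F := F)
  have he0 : e 0 = 1 := by
    have h := hadd 0 0
    rw [add_zero] at h
    exact mul_eq_left.mp h.symm
  have hez : ∀ x, e x * e x = 1 := fun x => (hrange _).mpr ⟨x, rfl⟩
  have hec : ∀ x (g : P), g * e x = e x * g := fun x g => Subgroup.mem_center_iff.mp (hZ.mpr (hez x)) g
  -- roots of involutions in `W`
  obtain ⟨w₁, hw₁, hw₁2, hw₁4⟩ : ∃ w ∈ W, w * w ≠ 1 ∧ w * w * (w * w) = 1 := by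
    obtain ⟨k, hk⟩ := hP.exists_orderOf_eq_pow w₀ (p := 2)
    have hk2 : 2 ≤ k := by
      by_contra h
      refine hw₀2 ?_
      rw [← pow_two]
      refine orderOf_dvd_iff_pow_eq_one.mp ?_
      rw [hk]
      exact (pow_dvd_pow 2 (show k ≤ 1 by omega)).trans (by norm_num)
    obtain ⟨j, rfl⟩ := Nat.exists_eq_add_of_le hk2
    refine ⟨w₀ ^ 2 ^ j, pow_mem hw₀ _, ?_, ?_⟩
    · rw [← pow_add, ← two_mul, ← pow_succ']
      exact pow_ne_one_of_lt_orderOf (pow_ne_zero _ two_ne_zero)
        (by rw [hk]; exact Nat.pow_lt_pow_right one_lt_two (by omega))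
    · rw [← pow_add, ← two_mul, ← pow_succ', ← pow_add, ← two_mul, ← pow_succ',
        show j + 1 + 1 = 2 + j by omega, ← hk, pow_orderOf_eq_one]
  have hroot : ∀ x : F, ∃ w ∈ W, w * w = e x := by
    intro x
    by_cases hx : x = 0
    · exact ⟨1, one_mem _, by rw [hx, he0, one_mul]⟩
    obtain ⟨a, ha⟩ := hA (w₁ * w₁) (e x) hw₁2 hw₁4 (fun h => hx (hinj (h.trans he0.symm))) (hez x)
    exact ⟨φ a w₁, hWi a _ hw₁, by rw [← map_mul]; exact ha⟩
  -- commutators of elements of order at most four of `W`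
  have hcW : ∀ {w : P} (y : P), w ∈ W → comm w y ∈ W := fun {w} y hw => by
    have e' : comm w y = w * (y * w⁻¹ * y⁻¹) := by simp only [comm]; group
    rw [e']; exact mul_mem hw (hconj y _ (inv_mem hw))
  have hcsq : ∀ {w : P} (y : P), w ∈ W → comm w y * comm w y = comm (w * w) y := fun {w} y hw => by
    have h := hWc _ (hconj y _ (inv_mem hw)) w hw
    calc comm w y * comm w y = w * ((y * w⁻¹ * y⁻¹) * w) * (y * w⁻¹ * y⁻¹) := by
          simp only [comm]; group
      _ = _ := by rw [h]; simp only [comm]; group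
  have hcommone : ∀ {x y : P}, x * y = y * x → comm x y = 1 := fun {x y} h => by
    simp only [comm]; rw [h]; group
  have hc4 : ∀ {w : P} (y : P), w ∈ W → w * w * (w * w) = 1 → comm w y ∈ Subgroup.center P :=
    fun {w} y hw h4 => hZ.mpr (by
      rw [hcsq y hw]
      exact hcommone (Subgroup.mem_center_iff.mp (hZ.mpr h4) y).symm)
  have hcmul : ∀ {w w' : P} (y : P), w' ∈ W → w' * w' * (w' * w') = 1 →
      comm (w * w') y = comm w y * comm w' y := fun {w w'} y hw' h4 => by
    calc comm (w * w') y = w * comm w' y * (y * w⁻¹ * y⁻¹) := by simp only [comm]; group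
      _ = comm w' y * w * (y * w⁻¹ * y⁻¹) := by rw [Subgroup.mem_center_iff.mp (hc4 y hw' h4) w]
      _ = comm w' y * comm w y := by simp only [comm]; group
      _ = _ := (Subgroup.mem_center_iff.mp (hc4 y hw' h4) _).symm
  have hcy : ∀ {w : P} (y y' : P), w ∈ W → w * w * (w * w) = 1 →
      comm w (y * y') = comm w y * comm w y' := fun {w} y y' hw h4 => by
    calc comm w (y * y') = comm w y * (y * comm w y' * y⁻¹) := by simp only [comm]; group
      _ = _ := by rw [Subgroup.mem_center_iff.mp (hc4 y' hw h4) y, mul_inv_cancel_right]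
  have hwd : ∀ {w w' : P} (y : P), w ∈ W → w' ∈ W → w * w = w' * w' → w * w * (w * w) = 1 →
      comm w y = comm w' y := fun {w w'} y hw hw' h h4 => by
    have hz : w'⁻¹ * w ∈ Subgroup.center P := hZ.mpr (by
      calc w'⁻¹ * w * (w'⁻¹ * w) = w'⁻¹ * (w * w'⁻¹) * w := by group
        _ = w'⁻¹ * (w'⁻¹ * w) * w := by rw [hWc w hw w'⁻¹ (inv_mem hw')]
        _ = (w' * w')⁻¹ * (w * w) := by group
        _ = 1 := by rw [← h, inv_mul_cancel])
    have hh := hcmul (w := w') y (w' := w'⁻¹ * w) (mul_mem (inv_mem hw') hw) (by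
      rw [hZ.mp hz, one_mul])
    rw [mul_inv_cancel_left] at hh
    rw [hh]
    refine mul_eq_left.mpr ?_
    simp only [comm]
    rw [← Subgroup.mem_center_iff.mp hz y]
    group
  choose rt hrtW hrt using hroot
  have hrt4 : ∀ x, rt x * rt x * (rt x * rt x) = 1 := fun x => by rw [hrt]; exact hez x
  choose T hT using fun (y : P) (x : F) => (hrange (comm (rt x) y)).mp (hZ.mp (hc4 y (hrtW x) (hrt4 x)))
  have hTw : ∀ {w : P} (y : P) (x : F), w ∈ W → w * w = e x → comm w y = e (T y x) :=
    fun {w} y x hw h => by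
      rw [hT]; exact hwd y hw (hrtW x) (h.trans (hrt x).symm) (by rw [h]; exact hez x)
  have hTadd : ∀ y x x', T y (x + x') = T y x + T y x' := fun y x x' => hinj (by
    rw [hadd, ← hTw (w := rt x * rt x') y (x + x') (mul_mem (hrtW x) (hrtW x')) (by
      calc rt x * rt x' * (rt x * rt x') = rt x * (rt x' * rt x) * rt x' := by group
        _ = rt x * (rt x * rt x') * rt x' := by rw [hWc _ (hrtW x') _ (hrtW x)]
        _ = (rt x * rt x) * (rt x' * rt x') := by group
        _ = _ := by rw [hrt, hrt, hadd]),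
      hcmul y (hrtW x') (hrt4 x'), hT, hT])
  have hTmul : ∀ y y' x, T (y * y') x = T y x + T y' x := fun y y' x => hinj (by
    rw [hadd, hT, hT, hT, hcy y y' (hrtW x) (hrt4 x)])
  have hTequiv : ∀ (a : A) (s : F), (∀ x, φ a (e x) = e (s * x)) →
      ∀ y x, T (φ a y) (s * x) = s * T y x := fun a s hs y x => hinj (by
    rw [← hs, hT y x, map_comm φ, hTw (w := φ a (rt x)) _ (s * x) (hWi a _ (hrtW x))
      (by rw [← map_mul, hrt, hs])])
  have hTbij := SuzukiTwoTwist.ofCoeff_bijective hl hn
  choose co hco using fun y => hTbij.2 (AddMonoidHom.mk' (T y) (hTadd y))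
  have hcoT : ∀ y x, T y x = ∑ d, co y d * x ^ 2 ^ (d : ℕ) := fun y x => by
    have := DFunLike.congr_fun (hco y) x
    simpa using this.symm
  have hcomul : ∀ y y', co (y * y') = co y + co y' := fun y y' => hTbij.1 (by
    ext x
    simp only [SuzukiTwoTwist.ofCoeff_apply, Pi.add_apply, add_mul, Finset.sum_add_distrib]
    rw [← hcoT, ← hcoT, ← hcoT, hTmul])
  have hcoA : ∀ (a : A) (s : F), s ≠ 0 → (∀ x, φ a (e x) = e (s * x)) →
      ∀ y d, co (φ a y) d = s / s ^ 2 ^ (d : ℕ) * co y d := fun a s hs0 hs y d => by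
    have h : co (φ a y) = fun d : Fin _ => s / s ^ 2 ^ (d : ℕ) * co y d := hTbij.1 (by
      ext x
      simp only [SuzukiTwoTwist.ofCoeff_apply]
      rw [← hcoT, show x = s * (x / s) from (mul_div_cancel₀ x hs0).symm, hTequiv a s hs, hcoT,
        Finset.mul_sum]
      refine Finset.sum_congr rfl fun d _ => ?_
      rw [mul_pow]
      field_simp)
    exact congrFun h d
  let D : AddSubgroup (Fin (Module.finrank (ZMod 2) F) → F) :=
    { carrier := Set.range co
      zero_mem' := ⟨1, by simpa using hcomul 1 1⟩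
      add_mem' := by rintro _ _ ⟨y, rfl⟩ ⟨y', rfl⟩; exact ⟨y * y', hcomul y y'⟩
      neg_mem' := by
        rintro _ ⟨y, rfl⟩
        refine ⟨y, funext fun d => ?_⟩
        haveI := SuzukiTwoTwist.charP_two (F := F)
        exact (CharTwo.neg_eq _).symm }
  have hcoinv : ∀ y, co y⁻¹ = co y := fun y => by
    haveI := SuzukiTwoTwist.charP_two (F := F)
    have h := hcomul y⁻¹ y
    rw [inv_mul_cancel] at h
    have h1 : co 1 = 0 := by simpa using hcomul 1 1
    rw [h1] at h
    funext d
    exact CharTwo.add_eq_zero.mp (congrFun h.symm d)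
  have hco1 : co 1 = 0 := by simpa using hcomul 1 1
  have hcoγ : ∀ (i : ℕ) y d, co (φ (γ ^ i) y) d =
      SuzukiTwoTwist.twist B'.c d ^ i * co y d := fun i y d => by
    rw [hcoA (γ ^ i) (B'.c ^ i) (pow_ne_zero _ B'.c_ne_zero) (apply_pow hγ i),
      SuzukiTwoTwist.twist, div_pow, ← pow_mul, ← pow_mul, mul_comm i]
  let K : Subgroup P :=
    { carrier := {y | co y = 0}
      one_mem' := hco1
      mul_mem' := fun {y y'} (h : co y = 0) (h' : co y' = 0) => by
        change co (y * y') = 0; rw [hcomul, h, h', add_zero]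
      inv_mem' := fun {y} (h : co y = 0) => by change co y⁻¹ = 0; rw [hcoinv, h] }
  have hKi : ∀ (a : A) (y : P), y ∈ K → φ a y ∈ K := fun a y (hy : co y = 0) => by
    change co (φ a y) = 0
    refine hTbij.1 ?_
    ext x
    simp only [SuzukiTwoTwist.ofCoeff_apply, Pi.zero_apply, zero_mul, Finset.sum_const_zero]
    rw [← hcoT]
    obtain ⟨x', hx'⟩ := (hrange _).mp (show φ a⁻¹ (e x) * φ a⁻¹ (e x) = 1 by
      rw [← map_mul, hez, map_one])
    refine hinj ?_
    rw [← hTw (w := φ a (rt x')) _ x (hWi a _ (hrtW x')) (by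
      rw [← map_mul, hrt, hx', apply_inv_apply]), ← map_comm φ, ← hT, hcoT, hy]
    simp [he0]
  have hD : ∀ c ∈ D, (fun d : Fin _ => SuzukiTwoTwist.twist B'.c d * c d) ∈ D := by
    rintro _ ⟨y, rfl⟩
    exact ⟨φ (γ ^ 1) y, funext fun d => by rw [hcoγ, pow_one]⟩
  -- twists occurring have full order
  have hfull : ∀ y d, co y d ≠ 0 → B'.Full d := by
    intro y d hy
    haveI := SuzukiTwoTwist.charP_two (F := F)
    set j := orderOf (SuzukiTwoTwist.twist B'.c d) with hj
    set τ := fun d' : Fin _ => SuzukiTwoTwist.twist B'.c d' ^ j with hτ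
    have hτm : ∀ d', τ d' ^ B'.m = 1 := fun d' => by
      rw [hτ, ← pow_mul, mul_comm, pow_mul]
      have hcm : B'.c ^ B'.m = 1 := by
        conv_lhs => rw [← B'.c_order]
        exact pow_orderOf_eq_one _
      rw [SuzukiTwoTwist.twist, div_pow, ← pow_mul, mul_comm (2 ^ _), pow_mul, hcm, one_pow,
        div_one, one_pow]
    have hdvd : j ∣ B'.m := orderOf_dvd_of_pow_eq_one (by
      have hcm : B'.c ^ B'.m = 1 := by
        conv_lhs => rw [← B'.c_order]
        exact pow_orderOf_eq_one _
      rw [SuzukiTwoTwist.twist, div_pow, ← pow_mul, mul_comm (2 ^ _), pow_mul, hcm, one_pow,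
        div_one])
    by_contra hne
    have hj0 : 0 < j := Nat.pos_of_dvd_of_pos hdvd B'.m_pos
    have hlt : j < B'.m := lt_of_le_of_ne (Nat.le_of_dvd B'.m_pos hdvd) hne
    have hcj : B'.c ^ j ≠ 1 := pow_ne_one_of_lt_orderOf hj0.ne' (by rw [B'.c_order]; exact hlt)
    obtain ⟨y', hy'⟩ : (fun d' : Fin _ => (∑ i ∈ Finset.range B'.m, τ d' ^ i) * co y d') ∈ D := by
      have : ∀ s : ℕ, (fun d' : Fin _ => (∑ i ∈ Finset.range s, τ d' ^ i) * co y d') ∈ D := by
        intro s
        induction s with
        | zero =>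
          convert D.zero_mem using 1
          funext d'
          simp
        | succ s ih =>
          convert add_mem ih (show (fun d' : Fin _ => τ d' ^ s * co y d') ∈ D from
            ⟨φ (γ ^ (j * s)) y, funext fun d' => by rw [hcoγ, hτ, pow_mul]⟩) using 1
          funext d'
          simp [Finset.sum_range_succ, add_mul]
      exact this _
    have hmem : y' ∈ K := by
      refine mem_of_fixed_coset hP hinj hadd hrange hγ hcj hKi ?_
      change co (y'⁻¹ * φ (γ ^ j) y') = 0
      funext d'
      rw [hcomul, hcoinv, Pi.add_apply, Pi.zero_apply, hcoγ, congrFun hy' d', ← mul_assoc]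
      change _ + τ d' * _ * _ = 0
      have h1 : τ d' * ∑ i ∈ Finset.range B'.m, τ d' ^ i = ∑ i ∈ Finset.range B'.m, τ d' ^ i := by
        have h2 := geom_sum_mul (τ d') B'.m
        rw [hτm, sub_self, mul_sub, mul_one, sub_eq_zero] at h2
        rw [mul_comm]; exact h2
      rw [h1]
      exact CharTwo.add_self_eq_zero _
    refine hy ?_
    have h := congrFun (hmem : co y' = 0) d
    rw [congrFun hy' d, Pi.zero_apply] at h
    have h1 : τ d = 1 := pow_orderOf_eq_one _
    simp only [h1, one_pow, Finset.sum_const, Finset.card_range, nsmul_eq_mul, mul_one,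
      CharTwo.natCast_eq_ite, Nat.not_even_iff_odd.mpr B'.m_odd, if_false, one_mul] at h
    exact h
  have hfull0 : ∀ y, co y ⟨0, by omega⟩ = 0 := fun y => by
    by_contra h
    exact B'.full_pos (hfull y _ h) B'.one_lt_m rfl
  have hlift : ∀ y d, ∃ y', co y' = Pi.single d (co y d) := fun y d =>
    B'.single_mem D hD (by rintro _ ⟨y, rfl⟩ d; exact hfull y d) ⟨y, rfl⟩ d
  have hker : ∀ (w : P) (y : P), w ∈ W → w * w * (w * w) = 1 → co y = 0 → comm w y = 1 := by
    intro w y hw h4 hy
    obtain ⟨x, hx⟩ := (hrange _).mp h4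
    rw [hTw y x hw hx.symm, hcoT, hy]
    simpa using he0
  have hsingle : ∀ y d a, co y = Pi.single d a → ∀ x, T y x = a * x ^ 2 ^ (d : ℕ) := by
    intro y d a hy x
    rw [hcoT, hy, Finset.sum_eq_single d]
    · simp
    · exact fun b _ hb => by simp [Pi.single_eq_of_ne hb]
    · simp
  let i0 : Fin (Module.finrank (ZMod 2) F) := ⟨0, by omega⟩
  by_cases hexp8 : ∀ w ∈ W, w * w * (w * w) = 1
  case neg =>
    -- exponent at least eight: the maps are idempotent
    exfalso
    push Not at hexp8
    obtain ⟨w₂, hw₂, hw₂4⟩ := hexp8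
    obtain ⟨k, hk⟩ := hP.exists_orderOf_eq_pow w₂ (p := 2)
    have hk3 : 3 ≤ k := by
      by_contra h
      refine hw₂4 ?_
      rw [← pow_two, ← pow_two, ← pow_mul]
      refine orderOf_dvd_iff_pow_eq_one.mp ?_
      rw [hk]
      exact (pow_dvd_pow 2 (show k ≤ 2 by omega)).trans (by norm_num)
    obtain ⟨j, rfl⟩ := Nat.exists_eq_add_of_le hk3
    have hz4 : ∀ x : F, ∃ u ∈ W, u * u * (u * u) = e x := by
      intro x
      by_cases hx : x = 0
      · exact ⟨1, one_mem _, by rw [hx, he0, one_mul, one_mul]⟩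
      set u := w₂ ^ 2 ^ j with hu
      have h8 : u * u * (u * u) * (u * u * (u * u)) = 1 := by
        rw [hu, ← pow_add, ← two_mul, ← pow_succ', ← pow_add, ← two_mul, ← pow_succ', ← pow_add,
          ← two_mul, ← pow_succ', show j + 1 + 1 + 1 = 3 + j by omega, ← hk, pow_orderOf_eq_one]
      have h4 : u * u * (u * u) ≠ 1 := by
        rw [hu, ← pow_add, ← two_mul, ← pow_succ', ← pow_add, ← two_mul, ← pow_succ']
        exact pow_ne_one_of_lt_orderOf (pow_ne_zero _ two_ne_zero)
          (by rw [hk]; exact Nat.pow_lt_pow_right one_lt_two (by omega))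
      obtain ⟨a, ha⟩ := hA _ (e x) h4 h8 (fun h => hx (hinj (h.trans he0.symm))) (hez x)
      exact ⟨φ a u, hWi a _ (pow_mem hw₂ _), by rw [← map_mul, ← map_mul]; exact ha⟩
    have hidem : ∀ y x, T y (T y x) = T y x := by
      intro y x
      obtain ⟨u, hu, hu4⟩ := hz4 x
      set a := comm u y with ha
      have haW : a ∈ W := hcW y hu
      have haa : a * a = e (T y x) := by
        rw [ha, hcsq y hu]; exact hTw y x (mul_mem hu hu) hu4
      have hya : y * a * y⁻¹ = a⁻¹ := by
        have h1 : y * (y * u * y⁻¹) * y⁻¹ = u := by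
          calc y * (y * u * y⁻¹) * y⁻¹ = y * y * u * (y * y)⁻¹ := by group
            _ = u := by rw [hWc _ (hsq y) _ hu, mul_inv_cancel_right]
        have h3 : a * (y * a * y⁻¹) = 1 := by
          calc a * (y * a * y⁻¹)
              = u * ((y * u⁻¹ * y⁻¹) * (y * u * y⁻¹)) * (y * (y * u * y⁻¹) * y⁻¹)⁻¹ := by
                simp [ha, comm, mul_assoc]
            _ = 1 := by rw [h1]; group
        exact (inv_eq_of_mul_eq_one_right h3).symm
      have h4 : comm a y = a * a := by
        calc comm a y = a * (y * a * y⁻¹)⁻¹ := by simp only [comm]; group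
          _ = a * a := by rw [hya, inv_inv]
      refine hinj ?_
      rw [← hTw y (T y x) haW haa, h4, haa]
    have hone : ∀ y, co y = 0 := by
      intro y
      haveI := SuzukiTwoTwist.charP_two (F := F)
      have hkey : ∀ d, co y d = 0 ∨ (d = i0 ∧ co y d = 1) := by
        intro d
        obtain ⟨y', hy'⟩ := hlift y d
        set a := co y d
        by_cases ha : a = 0
        · exact Or.inl ha
        have h : ∀ x, a * (a * x ^ 2 ^ (d : ℕ)) ^ 2 ^ (d : ℕ) = a * x ^ 2 ^ (d : ℕ) := fun x => by
          rw [← hsingle y' d a hy', ← hsingle y' d a hy', hidem]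
        have h1 : a = 1 := by
          have := mul_left_cancel₀ ha (h 1)
          simp only [one_pow, mul_one] at this
          exact iterateFrobenius_inj F 2 (d : ℕ) (by simp [iterateFrobenius_def, this])
        have h2 : l ^ 2 ^ (d : ℕ) = l ^ 2 ^ (i0 : ℕ) := by
          have := h l
          simp only [h1, one_mul] at this
          have h3 := iterateFrobenius_inj F 2 (d : ℕ) (a₁ := l ^ 2 ^ (d : ℕ)) (a₂ := l)
            (by simpa [iterateFrobenius_def] using this)
          simpa [i0] using h3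
        exact Or.inr ⟨Fin.ext (SuzukiTwoTwist.frob_inj hl hn d.2 i0.2 h2), h1⟩
      funext d
      rcases hkey d with h | ⟨rfl, -⟩
      · exact h
      · exact hfull0 y
    refine hw₁2 (hZ.mp (Subgroup.mem_center_iff.mpr fun y => ?_))
    exact (mul_inv_eq_iff_eq_mul.mp (mul_inv_eq_one.mp (hker w₁ y hw₁ hw₁4 (hone y)))).symm
  -- exponent four
  have hco_mem : ∀ y, co y = 0 → y ∈ W := fun y hy => hself y fun w hw =>
    (mul_inv_eq_iff_eq_mul.mp (mul_inv_eq_one.mp (hker w y hw (hexp8 w hw) hy))).symm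
  have hcoW : ∀ w ∈ W, co w = 0 := fun w hw => hTbij.1 (by
    ext x
    simp only [SuzukiTwoTwist.ofCoeff_apply, Pi.zero_apply, zero_mul, Finset.sum_const_zero]
    rw [← hcoT]
    exact hinj (by rw [hT, he0]; exact hcommone (hWc _ (hrtW x) _ hw)))
  have hmono : ∀ y d a, co y = Pi.single d a → a ≠ 0 → y * y * (y * y) = 1 := by
    intro y d a hy ha
    obtain ⟨x, hx⟩ := (hrange _).mp (hexp8 _ (hsq y))
    have h0 : comm (y * y) y = 1 := hcommone (mul_assoc y y y)
    rw [hTw y x (hsq y) hx.symm, hsingle y d a hy] at h0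
    have := hinj (h0.trans he0.symm)
    have hx0 : x = 0 := by simpa [ha] using this
    rw [← hx, hx0, he0]
  have hd0 : ∀ y, co y i0 = 0 := hfull0
  -- monomial elements commute modulo the centre
  have hBW : ∀ x y : P, comm x y ∈ W := fun x y => by
    have e' : comm x y = x * x * (x⁻¹ * y * (x⁻¹ * y)) * (y * y)⁻¹ := by simp only [comm]; group
    rw [e']
    exact mul_mem (mul_mem (hsq _) (hsq _)) (inv_mem (hsq _))
  choose B hB using fun x y : P => (hrange (comm x y * comm x y)).mp (hexp8 _ (hBW x y))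
  have hBadd : ∀ x y y', B x (y * y') = B x y + B x y' := fun x y y' => hinj (by
    rw [hadd, hB, hB, hB]
    have hconjW := hconj y _ (hBW x y')
    calc comm x (y * y') * comm x (y * y')
        = comm x y * ((y * comm x y' * y⁻¹) * comm x y) * (y * comm x y' * y⁻¹) := by
          simp only [comm]; group
      _ = comm x y * (comm x y * (y * comm x y' * y⁻¹)) * (y * comm x y' * y⁻¹) := by
          rw [hWc _ hconjW _ (hBW x y)]
      _ = comm x y * comm x y * (y * (comm x y' * comm x y') * y⁻¹) := by group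
      _ = _ := by
          rw [Subgroup.mem_center_iff.mp (hZ.mpr (hexp8 _ (hBW x y'))) y, mul_inv_cancel_right])
  have hBW0 : ∀ x w, w ∈ W → B x w = 0 := fun x w hw => hinj (by
    rw [hB, he0]
    have h := hc4 x hw (hexp8 w hw)
    have e' : comm x w = (comm w x)⁻¹ := by simp only [comm]; group
    rw [e', ← mul_inv_rev, hZ.mp h, inv_one])
  have hfix : ∀ x y, x * x ∈ Subgroup.center P → T x (B x y) = B x y := fun x y hx => hinj (by
    set b := comm x y with hb
    have h1 : x * b * x⁻¹ = b⁻¹ := by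
      refine (inv_eq_of_mul_eq_one_left ?_).symm
      calc x * b * x⁻¹ * b = comm (x * x) y := by simp only [hb, comm]; group
        _ = 1 := hcommone (Subgroup.mem_center_iff.mp hx y).symm
    rw [← hTw x (B x y) (hBW x y) (hB x y).symm, hB]
    calc comm b x = b * (x * b * x⁻¹)⁻¹ := by simp only [comm]; group
      _ = b * b := by rw [h1, inv_inv])
  have hBsymm : ∀ x y, B x y = B y x := fun x y => hinj (by
    rw [hB, hB]
    have e' : comm y x = (comm x y)⁻¹ := by simp only [comm]; group
    rw [e', ← mul_inv_rev]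
    exact (inv_eq_of_mul_eq_one_right (hexp8 _ (hBW x y))).symm)
  let Mono : Set P := {y | ∃ d a, (d : Fin _) ≠ i0 ∧ a ≠ 0 ∧ co y = Pi.single d a}
  have hMonoSq : ∀ y ∈ Mono, y * y ∈ Subgroup.center P := by
    rintro y ⟨d, a, -, ha, hy⟩
    exact hZ.mpr (hmono y d a hy ha)
  have hB0 : ∀ x ∈ Mono, ∀ y ∈ Mono, B x y = 0 := by
    intro x hx y hy
    by_contra hne
    have hxsq := hMonoSq x hx
    obtain ⟨d, a, hd, ha, hxc⟩ := hx
    obtain ⟨d', a', hd', ha', hyc⟩ := hy
    have hall : ∀ t : F, ∃ y', co y' = Pi.single d' t :=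
      B'.card_single D hD (hfull y d' (by rw [hyc, Pi.single_eq_same]; exact ha')) ha' ⟨y, hyc⟩
    choose ly hly using hall
    haveI := SuzukiTwoTwist.charP_two (F := F)
    have hwd' : ∀ z z', co z = co z' → B x z = B x z' := fun z z' h => by
      have hw : z⁻¹ * z' ∈ W := hco_mem _ (by
        rw [hcomul, hcoinv, h]; exact funext fun i => CharTwo.add_self_eq_zero _)
      have := hBadd x z (z⁻¹ * z')
      rw [mul_inv_cancel_left, hBW0 x _ hw, add_zero] at this
      exact this.symm
    let L : F →+ F := AddMonoidHom.mk' (fun t => B x (ly t)) fun t t' => by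
      rw [← hBadd]
      refine hwd' _ _ ?_
      rw [hcomul, hly, hly, hly, Pi.single_add]
    have hLy : L a' = B x y := hwd' _ _ ((hly a').trans hyc.symm)
    have hfibre : ∀ t, L t ≠ 0 → t * L t ^ 2 ^ (d' : ℕ) = L t := fun t ht => by
      by_cases ht0 : t = 0
      · exact absurd (by rw [ht0, map_zero]) ht
      have h := hfix (ly t) x (hMonoSq _ ⟨d', t, hd', ht0, hly t⟩)
      rw [hsingle _ d' t (hly t), hBsymm] at h
      exact h
    have hLinj : Function.Injective L := by
      rw [injective_iff_map_eq_zero]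
      intro t₀ h0
      have h1 : L (a' + t₀) = L a' := by rw [map_add, h0, add_zero]
      have h2 := hfibre a' (by rw [hLy]; exact hne)
      have h3 := hfibre (a' + t₀) (by rw [h1, hLy]; exact hne)
      rw [h1] at h3
      have h4 := mul_right_cancel₀ (pow_ne_zero _ (by rw [hLy]; exact hne)) (h3.trans h2.symm)
      simpa using h4
    have hLsurj := (Finite.injective_iff_surjective).mp hLinj
    have hTx : ∀ z, a * z ^ 2 ^ (d : ℕ) = z := fun z => by
      obtain ⟨t, rfl⟩ := hLsurj z
      rw [← hsingle x d a hxc]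
      exact hfix x (ly t) hxsq
    have ha1 : a = 1 := by simpa using hTx 1
    have hl1 : l ^ 2 ^ (d : ℕ) = l ^ 2 ^ (i0 : ℕ) := by simpa [ha1, i0] using hTx l
    exact hd (Fin.ext (SuzukiTwoTwist.frob_inj hl hn d.2 i0.2 hl1))
  -- the generators
  set M := Subgroup.closure ((W : Set P) ∪ Mono) with hM
  have hgen : M = ⊤ := by
    refine eq_top_iff.mpr fun y _ => ?_
    let E : AddSubgroup (Fin (Module.finrank (ZMod 2) F) → F) :=
      { carrier := {c | ∃ z ∈ M, co z = c}
        zero_mem' := ⟨1, one_mem _, by simpa using hcomul 1 1⟩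
        add_mem' := by
          rintro _ _ ⟨z, hz, rfl⟩ ⟨z', hz', rfl⟩
          exact ⟨z * z', mul_mem hz hz', hcomul z z'⟩
        neg_mem' := by
          rintro _ ⟨z, hz, rfl⟩
          refine ⟨z, hz, funext fun d => ?_⟩
          haveI := SuzukiTwoTwist.charP_two (F := F)
          exact (CharTwo.neg_eq _).symm }
    have hy : co y ∈ E := by
      rw [← Finset.univ_sum_single (co y)]
      refine sum_mem fun d _ => ?_
      by_cases h0 : co y d = 0
      · rw [h0, Pi.single_zero]; exact zero_mem _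
      obtain ⟨z, hz⟩ := hlift y d
      exact ⟨z, Subgroup.subset_closure (Or.inr
        ⟨d, _, fun hd => h0 (hd ▸ hd0 y), h0, hz⟩), hz⟩
    obtain ⟨z, hz, hzy⟩ := hy
    have hw : z⁻¹ * y ∈ W := hco_mem _ (by
      haveI := SuzukiTwoTwist.charP_two (F := F)
      rw [hcomul, hcoinv, hzy]; exact funext fun i => CharTwo.add_self_eq_zero _)
    simpa using mul_mem hz (Subgroup.subset_closure (Or.inl hw) : z⁻¹ * y ∈ M)
  have hpair : ∀ x ∈ (W : Set P) ∪ Mono, ∀ y ∈ (W : Set P) ∪ Mono, comm x y ∈ Subgroup.center P := by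
    rintro x (hx | hx) y (hy | hy)
    · exact hc4 y hx (hexp8 x hx)
    · exact hc4 y hx (hexp8 x hx)
    · have e' : comm x y = (comm y x)⁻¹ := by simp only [comm]; group
      rw [e']; exact inv_mem (hc4 x hy (hexp8 y hy))
    · exact hZ.mpr (by rw [← hB, hB0 x hx y hy, he0])
  set π := QuotientGroup.mk' (Subgroup.center P) with hπ
  have hcom : ∀ x y : P, π x * π y = π y * π x := by
    have h : ∀ x ∈ (W : Set P) ∪ Mono, ∀ y ∈ M, π x * π y = π y * π x := by
      intro x hx y hy
      induction hy using Subgroup.closure_induction with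
      | mem y hy =>
        have := (QuotientGroup.eq_one_iff _).mpr (hpair x hx y hy)
        simp only [comm, QuotientGroup.mk_mul, QuotientGroup.mk_inv] at this
        exact mul_inv_eq_iff_eq_mul.mp (mul_inv_eq_one.mp this)
      | one => simp
      | mul y z _ _ hy hz => rw [map_mul, ← mul_assoc, hy, mul_assoc, hz, mul_assoc]
      | inv y _ hy => rw [map_inv]; exact (Commute.inv_right hy).eq
    intro x y
    have hx : x ∈ M := hgen ▸ Subgroup.mem_top _
    induction hx using Subgroup.closure_induction with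
    | mem x hx => exact h x hx y (hgen ▸ Subgroup.mem_top _)
    | one => simp
    | mul x z _ _ hx hz => rw [map_mul, mul_assoc, hz, ← mul_assoc, hx, mul_assoc]
    | inv x _ hx => rw [map_inv]; exact (Commute.inv_left hx).eq
  intro g
  suffices h : π g * π g = 1 by
    rw [← map_mul] at h
    exact (QuotientGroup.eq_one_iff _).mp h
  have hg : g ∈ M := hgen ▸ Subgroup.mem_top _
  induction hg using Subgroup.closure_induction with
  | mem x hx =>
    rw [← map_mul]
    refine (QuotientGroup.eq_one_iff _).mpr ?_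
    rcases hx with hx | hx
    · exact hZ.mpr (hexp8 x hx)
    · exact hMonoSq x hx
  | one => simp
  | mul x y _ _ hx hy =>
    calc π (x * y) * π (x * y) = π x * (π y * π x) * π y := by rw [map_mul]; group
      _ = (π x * π x) * (π y * π y) := by rw [hcom y x]; group
      _ = 1 := by rw [hx, hy, one_mul]
  | inv x _ hx => rw [map_inv, ← mul_inv_rev, hx, inv_one]

end CfsgLib.RankOne.SuzukiSolvable
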