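import Cfsg.Agent.Lib.RankOne.SuzukiSolvable.Twist
import Cfsg.Agent.Lib.LocalEvenB.OddTransitive.Semilinear
import Cfsg.Agent.Lib.Solvable.Hall

/-!
# Two-groups with a solvable group transitive on the involutions: the semilinear frame

The involutions form a field, some automorphism multiplies them by a large power `c` of a generator,
and powers of it not fixing the involutions are fixed-point-free.
-/

set_option autoImplicit false
set_option linter.style.haveILetI false
set_option linter.unusedSectionVars false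

namespace CfsgLib.RankOne.SuzukiSolvable

universe u v

theorem dvd_card_of_transitive {H E : Type*} [Group H] [Finite H] [AddCommGroup E] [Finite E]
    [DistribMulAction H E] (h : ∀ x y : E, x ≠ 0 → y ≠ 0 → ∃ d : H, d • x = y) {a : E} (ha : a ≠ 0)
    {q : ℕ} (hq : Nat.card E = q) : q - 1 ∣ Nat.card H := by
  classical
  have horb : MulAction.orbit H a = {x : E | x ≠ 0} := by
    ext x
    refine ⟨?_, fun hx => h a x ha hx⟩
    rintro ⟨d, rfl⟩
    exact (smul_ne_zero_iff_ne d).mpr ha
  have h1 := MulAction.index_stabilizer H a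
  rw [horb] at h1
  refine (?_ : (MulAction.stabilizer H a).index = q - 1) ▸ Subgroup.index_dvd_card _
  rw [h1, show {x : E | x ≠ 0} = ({0} : Set E)ᶜ from rfl, Set.ncard_compl, Set.ncard_singleton, hq]

theorem cyclic_subgroup_eq {G : Type*} [CommGroup G] [Finite G] [IsCyclic G] {H K : Subgroup G}
    {m : ℕ} (hH : Nat.card H = m) (hK : Nat.card K = m) : H = K := by
  classical
  haveI := Fintype.ofFinite G
  have hle : ∀ L : Subgroup G, Nat.card L = m → (L : Set G) = {x | x ^ m = 1} := fun L hL => by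
    refine Set.eq_of_subset_of_ncard_le (fun x hx => hL ▸ orderOf_dvd_iff_pow_eq_one.mp (L.orderOf_dvd_natCard hx)) ?_
      (Set.toFinite _)
    rw [← Nat.card_coe_set_eq (L : Set G), Set.ncard_eq_toFinset_card', Set.toFinset_setOf]
    exact le_of_le_of_eq (IsCyclic.card_pow_eq_one_le (hL ▸ Nat.card_pos)) hL.symm
  exact SetLike.coe_injective ((hle H hH).trans (hle K hK).symm)

section Base

variable {P : Type u} [Group P] [Finite P] {A : Type v} [Group A] (φ : A →* MulAut P)

/-- The group `A` permutes the involutions transitively. -/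
def Trans : Prop :=
  ∀ x y : P, x ≠ 1 → x * x = 1 → y ≠ 1 → y * y = 1 → ∃ h : A, φ h x = y

variable {φ} (hP : IsPGroup 2 P) (hA : Trans φ)

include hP hA

theorem central_of_invol {x : P} (hx : x * x = 1) : x ∈ Subgroup.center P := by
  by_cases hx1 : x = 1
  · rw [hx1]; exact one_mem _
  haveI : Fact (Nat.Prime 2) := ⟨Nat.prime_two⟩
  haveI : Nontrivial P := ⟨⟨x, 1, hx1⟩⟩
  haveI : Nontrivial (Subgroup.center P) := hP.center_nontrivial
  obtain ⟨n, hn, hc⟩ := (hP.to_subgroup (Subgroup.center P)).nontrivial_iff_card.mp inferInstance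
  obtain ⟨⟨z, hz⟩, ho⟩ := exists_prime_orderOf_dvd_card' (G := Subgroup.center P) 2
    (hc ▸ dvd_pow_self 2 hn.ne')
  rw [Subgroup.orderOf_mk] at ho
  obtain ⟨h, rfl⟩ := hA z x (fun e => by rw [orderOf_eq_one_iff.mpr e] at ho; norm_num at ho)
    (by rw [← pow_two, ← ho]; exact pow_orderOf_eq_one z) hx1 hx
  exact MulEquivClass.apply_mem_center _ hz

/-- The involutions together with `1`. -/
def omega : Subgroup P where
  carrier := {x | x * x = 1}
  one_mem' := one_mul 1
  mul_mem' := fun {x y} hx hy => by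
    have h := Subgroup.mem_center_iff.mp (central_of_invol hP hA hx) y
    change x * y * (x * y) = 1
    calc x * y * (x * y) = x * (y * x) * y := by group
      _ = x * x * (y * y) := by rw [h]; group
      _ = 1 := by rw [hx, hy, one_mul]
  inv_mem' := fun {x} hx => by
    change x⁻¹ * x⁻¹ = 1
    rw [← mul_inv_rev, hx, inv_one]

omit hP hA in
theorem apply_invol (h : A) {x : P} (hx : x * x = 1) : φ h x * φ h x = 1 := by
  rw [← map_mul, hx, map_one]

/-- Low order elements of the centre are squares in it. -/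
theorem exists_sqrt {w : P} (hw : w ∈ Subgroup.center P) {z : P} (hz : z ∈ Subgroup.center P) :
    ∀ j : ℕ, w ^ 2 ^ j = 1 → z ^ 2 ^ j ≠ 1 → ∃ u ∈ Subgroup.center P, u * u = w := by
  intro j
  induction j generalizing w with
  | zero =>
    intro h _
    exact ⟨1, one_mem _, by rw [one_mul]; simpa using h.symm⟩
  | succ i ih =>
    intro h hz'
    have hzi : z ^ 2 ^ i ≠ 1 := fun e => hz' (by rw [pow_succ, pow_mul, e, one_pow])
    by_cases hwi : w ^ 2 ^ i = 1
    · exact ih hw hwi hzi
    obtain ⟨n, hn⟩ := hP.exists_orderOf_eq_pow z (p := 2)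
    have hni : i + 2 ≤ n := by
      by_contra hle
      refine hz' (orderOf_dvd_iff_pow_eq_one.mp ?_)
      rw [hn]; exact pow_dvd_pow 2 (by omega)
    obtain ⟨j, rfl⟩ := Nat.exists_eq_add_of_le hni
    have hne : z ^ 2 ^ (i + 1 + j) ≠ 1 := pow_ne_one_of_lt_orderOf (pow_ne_zero _ two_ne_zero)
      (by rw [hn]; exact Nat.pow_lt_pow_right one_lt_two (by omega))
    obtain ⟨g, hg⟩ := hA (z ^ 2 ^ (i + 1 + j)) (w ^ 2 ^ i) hne (by
      rw [← pow_add, ← two_mul, ← pow_succ', show i + 1 + j + 1 = i + 2 + j by omega, ← hn,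
        pow_orderOf_eq_one]) hwi (by rw [← pow_add, ← two_mul, ← pow_succ']; exact h)
    set v := φ g (z ^ 2 ^ j) with hv
    have hvC : v ∈ Subgroup.center P := MulEquivClass.apply_mem_center _ (pow_mem hz _)
    have hv2 : (v ^ 2) ^ 2 ^ i = w ^ 2 ^ i := by
      rw [hv, ← map_pow, ← map_pow, ← pow_mul, ← pow_mul, ← hg]
      congr 2
      rw [pow_add, pow_add, pow_one]; ring
    have hc : Commute (v⁻¹ ^ 2) w := (Subgroup.mem_center_iff.mp hw _)
    obtain ⟨u, hu, huu⟩ := ih (w := v⁻¹ ^ 2 * w) (mul_mem (pow_mem (inv_mem hvC) _) hw)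
      (by rw [hc.mul_pow, inv_pow, inv_pow, hv2, inv_mul_cancel]) hzi
    refine ⟨v * u, mul_mem hvC hu, ?_⟩
    calc v * u * (v * u) = v * (u * v) * u := by group
      _ = v ^ 2 * (u * u) := by rw [Subgroup.mem_center_iff.mp hvC u, pow_two]; group
      _ = w := by rw [huu]; group

omit hP hA in
/-- The action on a quotient by an invariant subgroup. -/
def quotientHom (N : Subgroup P) [N.Normal] (hN : ∀ (g : A), N.map (φ g).toMonoidHom = N) :
    A →* MulAut (P ⧸ N) where
  toFun g := QuotientGroup.congr N N (φ g) (hN g)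
  map_one' := by
    refine MulEquiv.ext fun x => ?_
    obtain ⟨y, rfl⟩ := QuotientGroup.mk_surjective x
    simp
  map_mul' g h := by
    refine MulEquiv.ext fun x => ?_
    obtain ⟨y, rfl⟩ := QuotientGroup.mk_surjective x
    simp
    rfl

end Base

section Frame

variable {P : Type u} [Group P] [Finite P] {A : Type v} [Group A] [Group.IsSolvable A]
  {φ : A →* MulAut P}

/-- The semilinear frame on the involutions. -/
theorem exists_frame (hP : IsPGroup 2 P) (hA : Trans φ)
    (htwo : ∃ x y : P, x ≠ y ∧ x ≠ 1 ∧ x * x = 1 ∧ y ≠ 1 ∧ y * y = 1) :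
    ∃ (F : Type u) (_ : Field F) (_ : Fintype F) (_ : Algebra (ZMod 2) F) (e : F → P) (B : Big F)
      (γ : A), Function.Injective e ∧ (∀ x y, e (x + y) = e x * e y) ∧
      (∀ z : P, z * z = 1 ↔ ∃ x, e x = z) ∧ (∀ x, φ γ (e x) = e (B.c * x)) := by
  classical
  haveI : Fact (Nat.Prime 2) := ⟨Nat.prime_two⟩
  obtain ⟨x₀, y₀, hxy₀, hx₀1, hx₀, hy₀1, hy₀⟩ := htwo
  let V := omega hP hA
  letI : CommGroup V :=
    { (inferInstance : Group V) with
      mul_comm := fun a b => Subtype.ext
        (Subgroup.mem_center_iff.mp (central_of_invol hP hA b.2) a.1) }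
  let res : A →* MulAut V :=
    { toFun := fun a =>
        { toFun := fun z => ⟨φ a z, apply_invol a z.2⟩
          invFun := fun z => ⟨φ a⁻¹ z, apply_invol a⁻¹ z.2⟩
          left_inv := fun z => Subtype.ext (by simp)
          right_inv := fun z => Subtype.ext (by simp)
          map_mul' := fun z w => Subtype.ext (map_mul _ _ _) }
      map_one' := MulEquiv.ext fun z => Subtype.ext (by simp)
      map_mul' := fun a b => MulEquiv.ext fun z => Subtype.ext (by simp) }
  haveI : Group.IsSolvable res.range := solvable_of_surjective res.rangeRestrict_surjective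
  haveI : Finite (MulAut V) := Finite.of_injective (fun a => (a : V → V)) DFunLike.coe_injective
  -- a transitive subgroup of odd order
  set G := res.range with hG
  obtain ⟨v, w, hvw⟩ := Nat.exists_eq_two_pow_mul_odd (Nat.card_pos (α := G)).ne'
  obtain ⟨hwodd, hcardG⟩ := hvw
  obtain ⟨H, hH⟩ := Solvable.Hall.exists_card_eq (G := G) (m := w) (n := 2 ^ v)
    (by rw [hcardG, mul_comm]) (Nat.Coprime.pow_right v (Nat.coprime_two_right.mpr hwodd))
  let ι : H →* MulAut V := G.subtype.comp H.subtype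
  have hι : Function.Injective ι := fun a b h => Subtype.ext (Subtype.ext h)
  let E := Additive V
  letI : DistribMulAction H E :=
    { smul := fun d x => Additive.ofMul (ι d (Additive.toMul x))
      one_smul := fun x => congrArg Additive.ofMul (show ι 1 (Additive.toMul x) = Additive.toMul x by simp)
      mul_smul := fun a b x => congrArg Additive.ofMul
        (show ι (a * b) (Additive.toMul x) = _ by rw [map_mul]; rfl)
      smul_zero := fun a => congrArg Additive.ofMul (map_one (ι a))
      smul_add := fun a x y => congrArg Additive.ofMul (map_mul (ι a) _ _) }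
  haveI : FaithfulSMul H E := ⟨fun {a b} h => hι (MulEquiv.ext fun z => h (Additive.ofMul z))⟩
  haveI : Finite E := Finite.of_equiv V Additive.ofMul
  have hE : ∀ x : E, 2 • x = 0 := fun x => by
    rw [two_nsmul]
    exact (Subtype.ext (Additive.toMul x).2 : Additive.toMul x * Additive.toMul x = 1)
  let v₀ : E := Additive.ofMul ⟨x₀, hx₀⟩
  have hv₀ : v₀ ≠ 0 := fun h => hx₀1 (congrArg (fun v : E => ((Additive.toMul v : V) : P)) h)
  have hodd : Odd (Nat.card H) := hH ▸ hwodd
  -- the orbit of the Hall subgroup is everything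
  haveI : Fintype E := Fintype.ofFinite E
  obtain ⟨r, hr⟩ := IsPGroup.iff_card.mp (hP.to_subgroup V)
  have hcardE : Nat.card E = 2 ^ r := (Nat.card_congr Additive.ofMul.symm).trans hr
  have htrans : ∀ x y : E, x ≠ 0 → y ≠ 0 → ∃ d : H, d • x = y := by
    intro x y hx hy
    letI : MulAction G {z : E // z ≠ 0} :=
      { smul := fun g z => ⟨Additive.ofMul ((g : MulAut V) (Additive.toMul z.1)),
          fun h => z.2 (congrArg Additive.ofMul ((g : MulAut V).injective
            ((congrArg Additive.toMul h).trans (map_one _).symm)))⟩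
        one_smul := fun z => Subtype.ext rfl
        mul_smul := fun g g' z => Subtype.ext rfl }
    haveI : MulAction.IsPretransitive G {z : E // z ≠ 0} := ⟨fun z z' => by
      obtain ⟨a, ha⟩ := hA ((Additive.toMul z.1 : V) : P) ((Additive.toMul z'.1 : V) : P)
        (fun h => z.2 (Subtype.ext h : (Additive.toMul z.1 : V) = 1)) (Additive.toMul z.1 : V).2
        (fun h => z'.2 (Subtype.ext h : (Additive.toMul z'.1 : V) = 1)) (Additive.toMul z'.1 : V).2
      exact ⟨⟨res a, a, rfl⟩, Subtype.ext (congrArg Additive.ofMul (Subtype.ext ha))⟩⟩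
    have hindex : (MulAction.stabilizer G (⟨x, hx⟩ : {z : E // z ≠ 0})).index = 2 ^ r - 1 := by
      rw [MulAction.index_stabilizer_of_transitive, ← hcardE]
      simp [Nat.card_eq_fintype_card, Fintype.card_subtype_compl]
    have hr0 : r ≠ 0 := fun h => by
      haveI := (Nat.card_eq_one_iff_unique.mp (hcardE.trans (by rw [h, pow_zero]))).1
      exact hx (Subsingleton.elim _ _)
    have hoddI : Nat.Coprime (2 ^ r - 1) (2 ^ v) := Nat.Coprime.pow_right v
      (Nat.coprime_two_right.mpr (Nat.Even.sub_odd Nat.one_le_two_pow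
        (even_two.pow_of_ne_zero hr0) odd_one))
    set S := MulAction.stabilizer G (⟨x, hx⟩ : {z : E // z ≠ 0}) with hS
    -- `H` meets every coset of the stabilizer
    have hcop : Nat.Coprime H.index S.index := by
      have h1 : H.index = 2 ^ v := by
        refine Nat.eq_of_mul_eq_mul_left (Nat.card_pos (α := H)) ?_
        rw [H.card_mul_index, hH, hcardG, mul_comm]
      rw [h1, hindex]; exact hoddI.symm
    have hsurj : Function.Surjective (fun h : H => ((h : G) • (⟨x, hx⟩ : {z : E // z ≠ 0}))) := by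
      haveI : MulAction.IsPretransitive H {z : E // z ≠ 0} := by
        refine MulAction.isPretransitive_iff_orbit_eq_univ (⟨x, hx⟩ : {z : E // z ≠ 0}) |>.mpr ?_
        refine Set.eq_of_subset_of_ncard_le (Set.subset_univ _) ?_ (Set.toFinite _)
        rw [Set.ncard_univ, ← MulAction.index_stabilizer,
          ← MulAction.index_stabilizer_of_transitive (G := G) (⟨x, hx⟩ : {z : E // z ≠ 0})]
        have h2 : MulAction.stabilizer H (⟨x, hx⟩ : {z : E // z ≠ 0}) = S.subgroupOf H := rfl
        rw [← hS, h2]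
        refine Nat.le_of_dvd (Nat.pos_of_ne_zero Subgroup.FiniteIndex.index_ne_zero) ?_
        have h3 : S.index ∣ (S ⊓ H).index := Subgroup.index_dvd_of_le inf_le_left
        rw [← Subgroup.relIndex_mul_index (inf_le_right : S ⊓ H ≤ H),
          Subgroup.inf_relIndex_right] at h3
        exact (Nat.Coprime.dvd_of_dvd_mul_right hcop.symm h3)
      exact fun z => MulAction.exists_smul_eq H (⟨x, hx⟩ : {z : E // z ≠ 0}) z
    obtain ⟨d, hd⟩ := hsurj ⟨y, hy⟩
    exact ⟨d, congrArg Subtype.val hd⟩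
  haveI : Group.IsSolvable H := inferInstance
  obtain ⟨-, R, hR, ψ, hψa, hsemi⟩ := LocalEvenB.OddTransitive.exists_semilinear hodd ‹_›
    Nat.prime_two hE (LocalEvenB.OddTransitive.PMTransitive.of_transitive htrans) hv₀
  letI := hR.toField
  haveI : Finite R := Finite.of_equiv E ψ.toEquiv
  haveI : Fintype R := Fintype.ofFinite R
  have h2R : (1 : R) + 1 = 0 := by
    rw [← hψa, ← map_add, ← two_nsmul, hE, map_zero]
  haveI : CharP R 2 := CharTwo.of_one_ne_zero_of_two_eq_zero one_ne_zero
    (by rw [← one_add_one_eq_two]; exact h2R)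
  letI : Algebra (ZMod 2) R := ZMod.algebra R 2
  set n := Module.finrank (ZMod 2) R with hn
  have hcardR : Nat.card R = 2 ^ n := by rw [Nat.card_eq_fintype_card, SuzukiTwoTwist.card_eq]
  have hn2 : 2 ≤ n := by
    by_contra h
    have h1 : Nat.card E ≤ 2 := by
      rw [Nat.card_congr ψ.toEquiv, hcardR]
      exact (Nat.pow_le_pow_right two_pos (show n ≤ 1 by omega)).trans (by norm_num)
    let w₀ : E := Additive.ofMul ⟨y₀, hy₀⟩
    have h3 : ({0, v₀, w₀} : Finset E).card = 3 := by
      rw [Finset.card_eq_three]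
      refine ⟨0, v₀, w₀, Ne.symm hv₀, fun h => hy₀1
        (congrArg (fun v : E => ((Additive.toMul v : V) : P)) h).symm, fun h => hxy₀
        (congrArg (fun v : E => ((Additive.toMul v : V) : P)) h), rfl⟩
    have := Finset.card_le_univ ({0, v₀, w₀} : Finset E)
    rw [Nat.card_eq_fintype_card] at h1
    omega
  choose u σ hσ using hsemi
  have hu : ∀ d : H, (u d : R) = ψ (d • v₀) := fun d => by rw [hσ, hψa, map_one, mul_one]
  have hσ' : ∀ (d : H) (r : R), σ d r = ψ (d • ψ.symm r) * (u d : R)⁻¹ := fun d r => by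
    rw [hσ, ψ.apply_symm_apply, mul_comm (u d : R), mul_assoc, mul_inv_cancel₀ (u d).ne_zero, mul_one]
  have hσmul : ∀ d d' : H, ∀ r, σ (d * d') r = σ d (σ d' r) := fun d d' r => by
    have h1 := hσ (d * d') (ψ.symm r)
    rw [mul_smul, hσ, hσ, ψ.apply_symm_apply, map_mul] at h1
    have h2 : (u (d * d') : R) = u d * σ d (u d') := by rw [hu, mul_smul, hσ, ← hu]
    rw [h2, mul_assoc] at h1
    exact (mul_left_cancel₀ (fun h => (u d').ne_zero ((map_eq_zero (σ d)).mp h))
      (mul_left_cancel₀ (u d).ne_zero h1)).symm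
  let g : H →* (R ≃ₐ[ZMod 2] R) := MonoidHom.mk'
    (fun d => AlgEquiv.ofRingEquiv (f := σ d) (by intro c; rw [← ZMod.natCast_zmod_val c, map_natCast, map_natCast]))
    (fun d d' => AlgEquiv.ext fun r => hσmul d d' r)
  have hrange : Nat.card g.range ∣ n := by
    rw [hn, ← IsGalois.card_aut_eq_finrank (ZMod 2) R]
    exact Subgroup.card_subgroup_dvd_card _
  -- the multiplications
  have hlin : ∀ d : g.ker, ∀ x, ψ ((d : H) • x) = u d * ψ x := fun d x => by
    rw [hσ]
    exact congrArg _ (DFunLike.congr_fun (MonoidHom.mem_ker.mp d.2) (ψ x))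
  let μ : g.ker →* Rˣ := MonoidHom.mk' (fun d => u d) fun d d' => Units.ext (by
    rw [Units.val_mul, hu, Subgroup.coe_mul, mul_smul, hlin, ← hu])
  have hμ : Function.Injective μ := (injective_iff_map_eq_one μ).mpr fun d hd =>
    Subtype.ext (eq_of_smul_eq_smul (α := E) fun x => ψ.injective (by
      rw [hlin, show u d = 1 from hd, Units.val_one, one_mul]
      exact congrArg ψ (one_smul H x).symm))
  obtain ⟨l, hl0, hl⟩ := SuzukiTwoTwist.exists_gen (F := R)
  set m := Nat.card g.ker with hm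
  have hcardU : Nat.card Rˣ = 2 ^ n - 1 := by rw [Nat.card_units, hcardR]
  have hmdvd : m ∣ 2 ^ n - 1 := by
    rw [← hcardU, hm, Nat.card_congr (MonoidHom.ofInjective hμ).toEquiv]
    exact Subgroup.card_subgroup_dvd_card _
  obtain ⟨k, hk⟩ := hmdvd
  have hm0 : 0 < m := Nat.card_pos
  have hoddq : Odd (2 ^ n - 1) :=
    Nat.Even.sub_odd Nat.one_le_two_pow (even_two.pow_of_ne_zero (by omega)) odd_one
  have hkn : k ∣ n := by
    refine dvd_trans (Nat.dvd_of_mul_dvd_mul_left hm0 ?_) hrange
    rw [← hk, hm, ← Subgroup.index_ker, g.ker.card_mul_index]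
    exact dvd_card_of_transitive htrans hv₀ (by rw [Nat.card_congr ψ.toEquiv, hcardR])
  let B : Big R :=
    { l := l, k := k, m := m, two_le := hn2, l_order := hl, k_dvd := hkn
      k_odd := (Nat.odd_mul.mp (hk ▸ hoddq)).2, mul_eq := by rw [mul_comm, ← hk] }
  -- the element `c` occurs
  obtain ⟨d, hd⟩ : ∃ d : g.ker, (μ d : R) = B.c := by
    haveI : IsCyclic Rˣ := inferInstance
    have h1 : μ.range = Subgroup.zpowers (Units.mk0 B.c B.c_ne_zero) := by
      haveI : Fintype Rˣ := Fintype.ofFinite _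
      have hc : Nat.card (Subgroup.zpowers (Units.mk0 B.c B.c_ne_zero)) = m := by
        rw [Nat.card_zpowers, ← orderOf_units]; exact B.c_order
      have hr' : Nat.card μ.range = m := (Nat.card_congr (MonoidHom.ofInjective hμ).toEquiv).symm
      exact cyclic_subgroup_eq hr' hc
    obtain ⟨d, hd⟩ : Units.mk0 B.c B.c_ne_zero ∈ μ.range := h1 ▸ Subgroup.mem_zpowers _
    exact ⟨d, congrArg Units.val hd⟩
  obtain ⟨γ, hγ⟩ : ((d : H) : G).1 ∈ res.range := ((d : H) : G).2
  refine ⟨R, inferInstance, inferInstance, inferInstance,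
    fun x => ((Additive.toMul (ψ.symm x) : V) : P), B, γ, ?_, ?_, ?_, ?_⟩
  · exact fun x y h => ψ.symm.injective (congrArg Additive.ofMul (Subtype.ext h))
  · exact fun x y => congrArg (fun v : E => ((Additive.toMul v : V) : P)) (map_add ψ.symm x y)
  · intro z
    refine ⟨fun hz => ⟨ψ (Additive.ofMul ⟨z, hz⟩), by simp⟩, ?_⟩
    rintro ⟨x, rfl⟩
    exact (Additive.toMul (ψ.symm x) : V).2
  · intro x
    change φ γ _ = ((Additive.toMul (ψ.symm (B.c * x)) : V) : P)
    have h1 : (d : H) • ψ.symm x = ψ.symm (B.c * x) :=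
      ψ.eq_symm_apply.mpr (by rw [hlin, ψ.apply_symm_apply, ← hd]; rfl)
    rw [← h1]
    exact congrArg Subtype.val (DFunLike.congr_fun hγ (Additive.toMul (ψ.symm x)))

end Frame

section Fixed

variable {P : Type u} [Group P] [Finite P] {A : Type v} [Group A] {φ : A →* MulAut P}
variable {F : Type u} [Field F] [Fintype F] [Algebra (ZMod 2) F] {e : F → P} {B : Big F} {γ : A}

theorem apply_pow (hγ : ∀ x, φ γ (e x) = e (B.c * x)) (i : ℕ) (x : F) :
    φ (γ ^ i) (e x) = e (B.c ^ i * x) := by
  induction i generalizing x with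
  | zero => simp
  | succ i ih => rw [pow_succ, map_mul, MulAut.mul_apply, hγ, ih, pow_succ, mul_assoc]

/-- Powers moving the involutions are fixed-point-free. -/
theorem fixed_eq_one (hP : IsPGroup 2 P) (hinj : Function.Injective e)
    (hadd : ∀ x y, e (x + y) = e x * e y) (hrange : ∀ z : P, z * z = 1 ↔ ∃ x, e x = z)
    (hγ : ∀ x, φ γ (e x) = e (B.c * x)) {i : ℕ} (hi : B.c ^ i ≠ 1) {x : P}
    (hx : φ (γ ^ i) x = x) : x = 1 := by
  by_contra hx1
  obtain ⟨j, hj⟩ := hP.exists_orderOf_eq_pow x (p := 2)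
  rcases j with _ | j
  · exact hx1 (orderOf_eq_one_iff.mp (hj.trans (pow_zero 2)))
  set z := x ^ 2 ^ j with hz
  have hz1 : z ≠ 1 := pow_ne_one_of_lt_orderOf (pow_ne_zero _ two_ne_zero)
    (by rw [hj]; exact Nat.pow_lt_pow_succ one_lt_two)
  obtain ⟨f, hf⟩ := (hrange z).mp (by
    rw [hz, ← pow_add, ← two_mul, ← pow_succ', ← hj, pow_orderOf_eq_one])
  have h1 : φ (γ ^ i) z = z := by rw [hz, map_pow, hx]
  rw [← hf, apply_pow hγ] at h1
  have h2 : (B.c ^ i - 1) * f = 0 := by rw [sub_mul, one_mul, hinj h1, sub_self]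
  rcases mul_eq_zero.mp h2 with h | h
  · exact hi (sub_eq_zero.mp h)
  · refine hz1 ?_
    have h0 := hadd 0 0
    rw [add_zero] at h0
    rw [← hf, h]
    exact mul_eq_left.mp h0.symm

/-- A coset fixed by a fixed-point-free automorphism is trivial. -/
theorem mem_of_fixed_coset (hP : IsPGroup 2 P) (hinj : Function.Injective e)
    (hadd : ∀ x y, e (x + y) = e x * e y) (hrange : ∀ z : P, z * z = 1 ↔ ∃ x, e x = z)
    (hγ : ∀ x, φ γ (e x) = e (B.c * x)) {i : ℕ} (hi : B.c ^ i ≠ 1) {K : Subgroup P}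
    (hK : ∀ a : A, ∀ k ∈ K, φ a k ∈ K) {x : P} (hx : x⁻¹ * φ (γ ^ i) x ∈ K) : x ∈ K := by
  let f : K → K := fun k => ⟨(k : P)⁻¹ * φ (γ ^ i) k, mul_mem (inv_mem k.2) (hK _ _ k.2)⟩
  have hf : Function.Injective f := fun k k' h => by
    have h' : (k : P)⁻¹ * φ (γ ^ i) k = (k' : P)⁻¹ * φ (γ ^ i) k' := congrArg Subtype.val h
    have h1 : φ (γ ^ i) ((k : P) * (k' : P)⁻¹) = (k : P) * (k' : P)⁻¹ := by
      rw [map_mul, map_inv, show φ (γ ^ i) (k : P) = (k : P) * ((k' : P)⁻¹ * φ (γ ^ i) k') by
        rw [← h', mul_inv_cancel_left]]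
      group
    exact Subtype.ext (mul_inv_eq_one.mp (fixed_eq_one hP hinj hadd hrange hγ hi h1))
  obtain ⟨k, hk⟩ := Finite.surjective_of_injective hf ⟨_, hx⟩
  have hk' : (k : P)⁻¹ * φ (γ ^ i) k = x⁻¹ * φ (γ ^ i) x := congrArg Subtype.val hk
  have h1 : φ (γ ^ i) ((k : P) * x⁻¹) = (k : P) * x⁻¹ := by
    rw [map_mul, map_inv, show φ (γ ^ i) (k : P) = (k : P) * (x⁻¹ * φ (γ ^ i) x) by
      rw [← hk', mul_inv_cancel_left]]
    group
  rw [← mul_inv_eq_one.mp (fixed_eq_one hP hinj hadd hrange hγ hi h1)]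
  exact k.2

end Fixed

end CfsgLib.RankOne.SuzukiSolvable
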