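import Cfsg.Agent.Lib.RankOne.SuzukiTwoTwist
import Cfsg.Agent.Lib.RankOne.SuzukiSolvable.Arith

/-!
# Twists by a large power of a generator of a finite field of characteristic two

`c = l ^ k` with `k` an odd divisor of the degree and of `|F| - 1`.  Twists by `c` of full order
behave like twists by `l`.
-/

set_option autoImplicit false
set_option linter.style.haveILetI false

namespace CfsgLib.RankOne.SuzukiSolvable

open Polynomial

variable (F : Type*) [Field F] [Fintype F] [Algebra (ZMod 2) F]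

/-- A generator of the multiplicative group together with a large power of it. -/
structure Big where
  /-- The generator. -/
  l : F
  /-- The index. -/
  k : ℕ
  /-- The order of the power. -/
  m : ℕ
  two_le : 2 ≤ Module.finrank (ZMod 2) F
  l_order : orderOf l = 2 ^ Module.finrank (ZMod 2) F - 1
  k_dvd : k ∣ Module.finrank (ZMod 2) F
  k_odd : Odd k
  mul_eq : k * m = 2 ^ Module.finrank (ZMod 2) F - 1

variable {F}

namespace Big

variable (B : Big F)

/-- The power. -/
def c : F := B.l ^ B.k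

theorem m_pos : 0 < B.m := by
  rcases Nat.eq_zero_or_pos B.m with h | h
  · have := B.mul_eq
    rw [h, mul_zero] at this
    have : 2 ^ 2 ≤ 2 ^ Module.finrank (ZMod 2) F := Nat.pow_le_pow_right two_pos B.two_le
    omega
  · exact h

theorem m_dvd : B.m ∣ 2 ^ Module.finrank (ZMod 2) F - 1 := Dvd.intro_left _ B.mul_eq

theorem m_odd : Odd B.m := by
  have h : Odd (2 ^ Module.finrank (ZMod 2) F - 1) :=
    Nat.Even.sub_odd Nat.one_le_two_pow (even_two.pow_of_ne_zero (by have := B.two_le; omega)) odd_one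
  rw [← B.mul_eq] at h
  exact (Nat.odd_mul.mp h).2

theorem c_order : orderOf B.c = B.m := by
  have hk0 : B.k ≠ 0 := by rintro h; have := B.k_odd; rw [h] at this; simp at this
  rw [Big.c, orderOf_pow' _ hk0, B.l_order, ← B.mul_eq, Nat.gcd_mul_right_left,
    Nat.mul_div_cancel_left _ (Nat.pos_of_ne_zero hk0)]

theorem c_ne_zero : B.c ≠ 0 := pow_ne_zero _ (SuzukiTwoTwist.l_ne_zero B.l_order B.two_le)

theorem pow_eq {i j : ℕ} : B.c ^ i = B.c ^ j ↔ i ≡ j [MOD B.m] := by
  have hu : B.c = ((Units.mk0 B.c B.c_ne_zero : Fˣ) : F) := rfl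
  rw [hu, ← Units.val_pow_eq_pow_val, ← Units.val_pow_eq_pow_val, Units.val_inj,
    pow_eq_pow_iff_modEq, ← orderOf_units, ← hu, B.c_order]

theorem six {n : ℕ} (hn : n = Module.finrank (ZMod 2) F) (h : n = 6 ∧ B.k = 3) : B.m = 21 := by
  have := B.mul_eq
  rw [← hn, h.1, h.2] at this
  norm_num at this
  omega

theorem frob_inj {a b : ℕ} (ha : a < Module.finrank (ZMod 2) F)
    (hb : b < Module.finrank (ZMod 2) F) (h : B.c ^ 2 ^ a = B.c ^ 2 ^ b) : a = b := by
  have h' : 2 ^ a + 2 ^ a ≡ 2 ^ b + 2 ^ b [MOD B.m] := (B.pow_eq.mp h).add (B.pow_eq.mp h)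
  rcases lift B.k_dvd B.k_odd B.mul_eq ha ha hb hb h' with h6 | h6
  · rw [Nat.ModEq, B.six rfl h6] at h'
    exact six_inj a (h6.1 ▸ ha) b (h6.1 ▸ hb) h'
  · refine SuzukiTwoTwist.frob_inj B.l_order B.two_le ha hb
      ((SuzukiTwoTwist.pow_eq_pow B.l_order B.two_le).mpr ?_)
    rw [← two_mul, ← two_mul] at h6
    refine h6.cancel_left_of_coprime ?_
    change Nat.Coprime _ 2
    refine Nat.coprime_two_right.mpr ?_
    exact Nat.Even.sub_odd Nat.one_le_two_pow (even_two.pow_of_ne_zero (by have := B.two_le; omega)) odd_one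

/-- The twist of the `d`-th coefficient has full order. -/
def Full (d : ℕ) : Prop := orderOf (SuzukiTwoTwist.twist B.c d) = B.m

theorem twist_pow {d j : ℕ} : SuzukiTwoTwist.twist B.c d ^ j = 1 ↔ B.c ^ j = B.c ^ (2 ^ d * j) := by
  rw [SuzukiTwoTwist.twist, div_pow, ← pow_mul,
    div_eq_one_iff_eq (pow_ne_zero _ B.c_ne_zero)]

theorem full_gcd {d : ℕ} (h : B.Full d) : Nat.gcd (2 ^ d - 1) B.m = 1 := by
  set g := Nat.gcd (2 ^ d - 1) B.m with hg
  obtain ⟨j, hj⟩ : g ∣ B.m := Nat.gcd_dvd_right _ _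
  have h1 : SuzukiTwoTwist.twist B.c d ^ j = 1 := by
    rw [B.twist_pow, B.pow_eq]
    refine (Nat.modEq_iff_dvd' (Nat.le_mul_of_pos_left _ (Nat.two_pow_pos d))).mpr ?_
    rw [hj, ← Nat.sub_one_mul]
    exact mul_dvd_mul_right (Nat.gcd_dvd_left _ _) _
  have h2 : B.m ∣ j := h ▸ orderOf_dvd_of_pow_eq_one h1
  have hj0 : 0 < j := Nat.pos_of_ne_zero (by rintro rfl; rw [mul_zero] at hj; exact B.m_pos.ne' hj)
  have h3 := Nat.le_of_dvd hj0 h2
  rw [hj] at h3
  have h4 : g * j ≤ 1 * j := by rw [one_mul]; exact h3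
  have h5 := Nat.le_of_mul_le_mul_right h4 hj0
  have h6 : 0 < g := Nat.gcd_pos_of_pos_right _ B.m_pos
  omega

theorem full_pos {d : ℕ} (h : B.Full d) (hm : 1 < B.m) : d ≠ 0 := by
  rintro rfl
  have := B.full_gcd h
  simp at this
  omega

theorem one_lt_m : 1 < B.m := by
  by_contra h
  have h1 : B.c ^ 1 = B.c ^ 2 := B.pow_eq.mpr (by
    rw [show B.m = 1 by have := B.m_pos; omega]; exact Nat.modEq_one)
  have h2 := B.frob_inj (a := 0) (b := 1) (by have := B.two_le; omega) B.two_le
    (by simpa using h1)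
  omega

theorem twist_conj {d e : ℕ} (hd : d < Module.finrank (ZMod 2) F)
    (he : e < Module.finrank (ZMod 2) F) (hfd : B.Full d) (hfe : B.Full e) {t : ℕ}
    (ht : t < Module.finrank (ZMod 2) F)
    (h : SuzukiTwoTwist.twist B.c d ^ 2 ^ t = SuzukiTwoTwist.twist B.c e) : d = e ∧ t = 0 := by
  have hc0 := B.c_ne_zero
  simp only [SuzukiTwoTwist.twist, div_pow, ← pow_mul, ← pow_add] at h
  rw [div_eq_div_iff (pow_ne_zero _ hc0) (pow_ne_zero _ hc0), ← pow_add, ← pow_succ'] at h
  have h0 : 2 ^ t + 2 ^ e ≡ 2 ^ (d + t) + 1 [MOD B.m] := by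
    have := B.pow_eq.mp h
    rwa [add_comm (2 ^ (d + t)) 1, add_comm 1]
  have h' : 2 ^ t + 2 ^ e ≡ 2 ^ ((d + t) % (Module.finrank (ZMod 2) F)) + 2 ^ 0 [MOD B.m] := by
    rw [pow_zero]
    exact h0.trans (((pow_mod_exp (Module.finrank (ZMod 2) F) _).of_dvd B.m_dvd).add_right 1)
  rcases lift B.k_dvd B.k_odd B.mul_eq ht he (Nat.mod_lt _ (by have := B.two_le; omega))
      (by have := B.two_le; omega) h' with h6 | h6
  · have hg := B.full_gcd hfd
    have hg' := B.full_gcd hfe
    rw [B.six rfl h6] at hg hg'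
    rw [Nat.ModEq, B.six rfl h6, pow_zero, h6.1] at h'
    exact six_conj d (h6.1 ▸ hd) e (h6.1 ▸ he) t (h6.1 ▸ ht) hg hg' h'
  · have h7 : 2 ^ t + 2 ^ e ≡ 2 ^ (d + t) + 1 [MOD 2 ^ (Module.finrank (ZMod 2) F) - 1] := by
      rw [pow_zero] at h6
      exact h6.trans ((pow_mod_exp (Module.finrank (ZMod 2) F) _).symm.add_right 1)
    obtain ⟨h8, h9⟩ := SuzukiTwoTwist.twist_conj B.l_order B.two_le hd he t ht (by
      have hl0 := SuzukiTwoTwist.l_ne_zero B.l_order B.two_le
      simp only [SuzukiTwoTwist.twist, div_pow, ← pow_mul, ← pow_add]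
      rw [div_eq_div_iff (pow_ne_zero _ hl0) (pow_ne_zero _ hl0), ← pow_add, ← pow_succ',
        SuzukiTwoTwist.pow_eq_pow B.l_order B.two_le]
      first | exact h7 | (rw [add_comm 1]; exact h7))
    exact ⟨h8, h9 (B.full_pos hfd B.one_lt_m)⟩

/-- `c ^ (2 ^ j + 2 ^ d) = c` forces both exponents to be the square root. -/
theorem sum_eq_self {j d : ℕ} (hj : j < Module.finrank (ZMod 2) F)
    (hd : d < Module.finrank (ZMod 2) F) (h : B.c ^ (2 ^ j + 2 ^ d) = B.c) :
    j = Module.finrank (ZMod 2) F - 1 ∧ d = Module.finrank (ZMod 2) F - 1 := by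
  have hn2 := B.two_le
  have h0 : 2 ^ j + 2 ^ d ≡ 1 [MOD B.m] := B.pow_eq.mp (by rwa [pow_one])
  have hhalf : 2 ^ ((Module.finrank (ZMod 2) F) - 1) + 2 ^ ((Module.finrank (ZMod 2) F) - 1) ≡ 1 [MOD 2 ^ (Module.finrank (ZMod 2) F) - 1] := by
    rw [← two_mul, ← pow_succ', show (Module.finrank (ZMod 2) F) - 1 + 1 = (Module.finrank (ZMod 2) F) by omega]
    exact Nat.modEq_sub Nat.one_le_two_pow
  rcases lift B.k_dvd B.k_odd B.mul_eq hj hd (show (Module.finrank (ZMod 2) F) - 1 < (Module.finrank (ZMod 2) F) by omega) (show (Module.finrank (ZMod 2) F) - 1 < (Module.finrank (ZMod 2) F) by omega)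
      (h0.trans (hhalf.of_dvd B.m_dvd).symm) with h6 | h6
  · rw [Nat.ModEq, B.six rfl h6] at h0
    obtain ⟨e1, e2⟩ := six_sum j (h6.1 ▸ hj) d (h6.1 ▸ hd) h0
    omega
  · have h1 := h6.trans hhalf
    have h2 : 2 ^ j * 2 ≤ 2 ^ (Module.finrank (ZMod 2) F) := by rw [← pow_succ]; exact Nat.pow_le_pow_right two_pos hj
    have h3 : 2 ^ d * 2 ≤ 2 ^ (Module.finrank (ZMod 2) F) := by rw [← pow_succ]; exact Nat.pow_le_pow_right two_pos hd
    have h4 := Nat.two_pow_pos j
    have h5 := Nat.two_pow_pos d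
    have h7 := (Nat.modEq_iff_dvd' (show 1 ≤ 2 ^ j + 2 ^ d by omega)).mp h1.symm
    have h8 : 2 ^ j + 2 ^ d = 2 ^ (Module.finrank (ZMod 2) F) := by
      rcases h7 with ⟨q, hq⟩
      rcases q with _ | _ | q
      · omega
      · omega
      · rw [Nat.mul_succ, Nat.mul_succ] at hq
        have : 2 ^ 2 ≤ 2 ^ (Module.finrank (ZMod 2) F) := Nat.pow_le_pow_right two_pos hn2
        omega
    have e1 : 2 ^ j = 2 ^ ((Module.finrank (ZMod 2) F) - 1) := by
      have : 2 ^ ((Module.finrank (ZMod 2) F) - 1) * 2 = 2 ^ (Module.finrank (ZMod 2) F) := by rw [← pow_succ, show (Module.finrank (ZMod 2) F) - 1 + 1 = (Module.finrank (ZMod 2) F) by omega]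
      omega
    have e2 : 2 ^ d = 2 ^ ((Module.finrank (ZMod 2) F) - 1) := by
      have : 2 ^ ((Module.finrank (ZMod 2) F) - 1) * 2 = 2 ^ (Module.finrank (ZMod 2) F) := by rw [← pow_succ, show (Module.finrank (ZMod 2) F) - 1 + 1 = (Module.finrank (ZMod 2) F) by omega]
      omega
    exact ⟨Nat.pow_right_injective le_rfl e1, Nat.pow_right_injective le_rfl e2⟩

theorem card_conjugates {d : ℕ} (hd : d < Module.finrank (ZMod 2) F) (hfd : B.Full d) :
    Function.Injective (fun t : Fin (Module.finrank (ZMod 2) F) =>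
      SuzukiTwoTwist.twist B.c d ^ 2 ^ (t : ℕ)) := by
  intro t s hts
  wlog hle : (t : ℕ) ≤ s generalizing t s
  · exact (this hts.symm (by omega)).symm
  obtain ⟨j, hj⟩ := Nat.exists_eq_add_of_le hle
  simp only [hj] at hts
  rw [pow_add, mul_comm, pow_mul] at hts
  haveI := SuzukiTwoTwist.charP_two (F := F)
  have := iterateFrobenius_inj F 2 (t : ℕ) (by simpa [iterateFrobenius_def] using hts.symm)
  exact Fin.ext (by have := (B.twist_conj hd hd hfd hfd (by omega) this).2; omega)

/-- A full twist generates the field. -/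
theorem natDegree_le {d : ℕ} (hd : d < Module.finrank (ZMod 2) F) (hfd : B.Full d) :
    Module.finrank (ZMod 2) F ≤ (minpoly (ZMod 2) (SuzukiTwoTwist.twist B.c d)).natDegree := by
  classical
  set μ := SuzukiTwoTwist.twist B.c d
  have hint : IsIntegral (ZMod 2) μ := Algebra.IsIntegral.isIntegral _
  set g : F[X] := (minpoly (ZMod 2) μ).map (algebraMap (ZMod 2) F) with hg
  have hg0 : g ≠ 0 := Polynomial.map_ne_zero (minpoly.ne_zero hint)
  calc Module.finrank (ZMod 2) F = (Finset.univ.image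
        (fun t : Fin (Module.finrank (ZMod 2) F) => μ ^ 2 ^ (t : ℕ))).card := by
        rw [Finset.card_image_of_injective _ (B.card_conjugates hd hfd), Finset.card_univ, Fintype.card_fin]
    _ ≤ g.roots.toFinset.card := by
        refine Finset.card_le_card fun x hx => ?_
        obtain ⟨t, -, rfl⟩ := Finset.mem_image.mp hx
        rw [Multiset.mem_toFinset, mem_roots hg0, IsRoot, hg, eval_map_algebraMap,
          SuzukiTwoTwist.aeval_pow_two, minpoly.aeval, zero_pow (pow_ne_zero _ two_ne_zero)]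
    _ ≤ g.natDegree := (Multiset.toFinset_card_le _).trans (card_roots' g)
    _ = _ := natDegree_map _

/-- The minimal polynomial of a full twist has no other full twist as a root. -/
theorem twist_root {d e : ℕ} (hd : d < Module.finrank (ZMod 2) F)
    (he : e < Module.finrank (ZMod 2) F) (hfd : B.Full d) (hfe : B.Full e)
    (h : aeval (SuzukiTwoTwist.twist B.c e) (minpoly (ZMod 2) (SuzukiTwoTwist.twist B.c d)) = 0) :
    d = e := by
  classical
  set μ := SuzukiTwoTwist.twist B.c d with hμ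
  have hint : IsIntegral (ZMod 2) μ := Algebra.IsIntegral.isIntegral _
  set g : F[X] := (minpoly (ZMod 2) μ).map (algebraMap (ZMod 2) F) with hg
  have hg0 : g ≠ 0 := Polynomial.map_ne_zero (minpoly.ne_zero hint)
  have hsub : Finset.univ.image (fun t : Fin (Module.finrank (ZMod 2) F) => μ ^ 2 ^ (t : ℕ)) =
      g.roots.toFinset := by
    refine Finset.eq_of_subset_of_card_le (fun x hx => ?_) ?_
    · obtain ⟨t, -, rfl⟩ := Finset.mem_image.mp hx
      rw [Multiset.mem_toFinset, mem_roots hg0, IsRoot, hg, eval_map_algebraMap,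
        SuzukiTwoTwist.aeval_pow_two, minpoly.aeval, zero_pow (pow_ne_zero _ two_ne_zero)]
    · rw [Finset.card_image_of_injective _ (B.card_conjugates hd hfd), Finset.card_univ, Fintype.card_fin]
      refine (Multiset.toFinset_card_le _).trans ((card_roots' g).trans ?_)
      rw [hg, natDegree_map]
      exact minpoly.natDegree_le _
  have he' : SuzukiTwoTwist.twist B.c e ∈ g.roots.toFinset := by
    rw [Multiset.mem_toFinset, mem_roots hg0, IsRoot, hg, eval_map_algebraMap, h]
  rw [← hsub] at he'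
  obtain ⟨t, -, ht⟩ := Finset.mem_image.mp he'
  exact (B.twist_conj hd he hfd hfe t.2 ht).1

/-- Twisted subgroups supported on full twists split into their coordinates. -/
theorem single_mem (D : AddSubgroup (Fin (Module.finrank (ZMod 2) F) → F))
    (hD : ∀ v ∈ D, (fun d : Fin (Module.finrank (ZMod 2) F) => SuzukiTwoTwist.twist B.c d * v d) ∈ D)
    (hsupp : ∀ v ∈ D, ∀ d, v d ≠ 0 → B.Full d)
    {v : Fin (Module.finrank (ZMod 2) F) → F} (hv : v ∈ D)
    (e : Fin (Module.finrank (ZMod 2) F)) : Pi.single e (v e) ∈ D := by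
  classical
  by_cases hve : v e = 0
  · rw [hve, Pi.single_zero]; exact zero_mem _
  haveI : Fact (Nat.Prime 2) := ⟨Nat.prime_two⟩
  have hp : ∀ p : (ZMod 2)[X], (fun d : Fin (Module.finrank (ZMod 2) F) =>
      aeval (SuzukiTwoTwist.twist B.c d) p * v d) ∈ D := by
    intro p
    induction p using Polynomial.induction_on' with
    | add p q hp hq =>
      have := add_mem hp hq
      convert this using 1
      funext d
      simp [add_mul]
    | monomial j a =>
      have hk : (fun d : Fin (Module.finrank (ZMod 2) F) => SuzukiTwoTwist.twist B.c d ^ j * v d) ∈ D := by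
        induction j with
        | zero => simpa using hv
        | succ j ih =>
          have := hD _ ih
          convert this using 1
          funext d
          ring
      rcases CharTwoMaps.zmod_two a with rfl | rfl
      · convert D.zero_mem using 1
        funext d
        simp
      · convert hk using 1
        funext d
        simp [aeval_monomial]
  set S := (Finset.univ.filter fun d : Fin (Module.finrank (ZMod 2) F) => v d ≠ 0).erase e with hS
  set P : (ZMod 2)[X] := (∏ d ∈ S, minpoly (ZMod 2) (SuzukiTwoTwist.twist B.c d)) ^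
    (Fintype.card F - 1) with hP
  convert hp P using 1
  funext d
  by_cases hde : d = e
  · subst hde
    rw [Pi.single_eq_same, hP, map_pow, FiniteField.pow_card_sub_one_eq_one _ ?_, one_mul]
    rw [map_prod]
    refine Finset.prod_ne_zero_iff.mpr fun d' hd' h0 => ?_
    obtain ⟨hne, hd'⟩ := Finset.mem_erase.mp hd'
    exact hne (Fin.ext (B.twist_root d'.2 d.2 (hsupp v hv d' (Finset.mem_filter.mp hd').2)
      (hsupp v hv d hve) h0))
  · rw [Pi.single_eq_of_ne hde]
    by_cases hvd : v d = 0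
    · rw [hvd, mul_zero]
    rw [hP, map_pow, map_prod, Finset.prod_eq_zero (Finset.mem_erase.mpr ⟨hde,
        Finset.mem_filter.mpr ⟨Finset.mem_univ d, hvd⟩⟩) (minpoly.aeval _ _),
      zero_pow (Nat.sub_ne_zero_of_lt Fintype.one_lt_card), zero_mul]

/-- A non-zero coordinate subgroup of a full twist is as large as the field. -/
theorem card_single (D : AddSubgroup (Fin (Module.finrank (ZMod 2) F) → F))
    (hD : ∀ v ∈ D, (fun d : Fin (Module.finrank (ZMod 2) F) => SuzukiTwoTwist.twist B.c d * v d) ∈ D)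
    {e : Fin (Module.finrank (ZMod 2) F)} (hfe : B.Full e) {a : F} (ha : a ≠ 0)
    (hv : Pi.single e a ∈ D) : ∀ x : F, Pi.single e x ∈ D := by
  classical
  haveI : Fact (Nat.Prime 2) := ⟨Nat.prime_two⟩
  set μ := SuzukiTwoTwist.twist B.c (e : ℕ) with hμ
  let S : Submodule (ZMod 2) F :=
    { carrier := {x | Pi.single e (x * a) ∈ D}
      zero_mem' := by simp
      add_mem' := fun {x y} hx hy => by
        show Pi.single e ((x + y) * a) ∈ D
        rw [add_mul, Pi.single_add]
        exact add_mem hx hy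
      smul_mem' := fun r x hx => by
        rcases CharTwoMaps.zmod_two r with rfl | rfl
        · show Pi.single e (((0 : ZMod 2) • x) * a) ∈ D
          rw [zero_smul, zero_mul, Pi.single_zero]
          exact zero_mem _
        · show Pi.single e (((1 : ZMod 2) • x) * a) ∈ D
          rw [one_smul]
          exact hx }
  have hS1 : ∀ j, μ ^ j ∈ S := by
    intro j
    induction j with
    | zero => show Pi.single e (μ ^ 0 * a) ∈ D; simpa using hv
    | succ j ih =>
      show Pi.single e (μ ^ (j + 1) * a) ∈ D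
      convert hD _ ih using 1
      funext d
      by_cases hde : d = e
      · subst hde; simp [← hμ]; ring
      · simp [Pi.single_eq_of_ne hde]
  have hli : LinearIndependent (ZMod 2) (fun j : Fin (Module.finrank (ZMod 2) F) => μ ^ (j : ℕ)) :=
    (linearIndependent_pow μ).comp (Fin.castLE (B.natDegree_le e.2 hfe)) (Fin.castLE_injective _)
  have htop := hli.span_eq_top_of_card_eq_finrank' (Fintype.card_fin _)
  intro x
  have hx : x / a ∈ S := (htop ▸ Submodule.span_le.mpr (by rintro _ ⟨j, rfl⟩; exact hS1 _) :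
    (⊤ : Submodule (ZMod 2) F) ≤ S) Submodule.mem_top
  have hx' : Pi.single e (x / a * a) ∈ D := hx
  rwa [div_mul_cancel₀ x ha] at hx'

end Big

end CfsgLib.RankOne.SuzukiSolvable
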